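import Cfsg.Agent.Lib.GLThree.Tables
import Cfsg.Agent.Lib.BSW.Dual
import Cfsg.Agent.Lib.Char.ClassMult
import Cfsg.Agent.Lib.Char.Induced
import Mathlib.GroupTheory.SpecificGroups.Cyclic
import Mathlib.RingTheory.RootsOfUnity.Complex

/-!
# Characters induced from the cyclic subgroups of order 8 and 6

`indFun_pow`, `classInner_indFun`, `class_sum`: values, inner products and the class
multiplication formula for functions induced from a cyclic subgroup containing `t`.
-/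

set_option autoImplicit false

open scoped ComplexConjugate

namespace Cfsg.Agent.GLThree

open Cfsg Cfsg.Agent

variable {G : Type*} [Group G] [Fintype G] {t w : G} {n : ℕ}

/-- The linear function `w ^ j ↦ ζ ^ j` on `zpowers w`. -/
theorem exists_hom (hn : orderOf w = n) {ζ : ℂ} (hζ : ζ ^ n = 1) :
    ∃ l : Subgroup.zpowers w →* ℂˣ, ∀ j : ℕ,
      (l (⟨w, Subgroup.mem_zpowers w⟩ ^ j) : ℂ) = ζ ^ j := by
  have hn0 : n ≠ 0 := hn ▸ (orderOf_pos w).ne'
  let u : ℂˣ := Units.ofPowEqOne ζ n hζ hn0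
  have hu : u ^ n = 1 := Units.ext (by simp [u, hζ])
  have hgen : ∀ x : Subgroup.zpowers w,
      x ∈ Subgroup.zpowers (⟨w, Subgroup.mem_zpowers w⟩ : Subgroup.zpowers w) := by
    rintro ⟨x, k, rfl⟩
    exact ⟨k, Subtype.ext (by simp)⟩
  have hd : orderOf u ∣ orderOf (⟨w, Subgroup.mem_zpowers w⟩ : Subgroup.zpowers w) := by
    rw [Subgroup.orderOf_mk, hn]
    exact orderOf_dvd_of_pow_eq_one hu
  refine ⟨monoidHomOfForallMemZpowers hgen hd, fun j => ?_⟩
  rw [map_pow, monoidHomOfForallMemZpowers_apply_gen, Units.val_pow_eq_pow_val]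
  simp [u]

theorem sum_zpowers (hn : orderOf w = n) [Fintype (Subgroup.zpowers w)] (f : Subgroup.zpowers w → ℂ) :
    ∑ x : Subgroup.zpowers w, f x =
      ∑ m ∈ Finset.range n, f (⟨w, Subgroup.mem_zpowers w⟩ ^ m) := by
  subst hn
  rw [← Fin.sum_univ_eq_sum_range (fun m => f (⟨w, Subgroup.mem_zpowers w⟩ ^ m))]
  refine (Fintype.sum_equiv (finEquivZPowers (x := w) (isOfFinOrder_of_finite w)) _ _ fun m => ?_).symm
  rw [finEquivZPowers_apply]
  exact congrArg f (Subtype.ext (by simp))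

theorem eq_one_or_t (hn : orderOf w = n) {k : ℕ} (hk : w ^ k = t) (hkn : 2 * k = n)
    {a : G} (ha : a ∈ Subgroup.zpowers w) (haa : a * a = 1) : a = 1 ∨ a = t := by
  obtain ⟨i, rfl⟩ := (isOfFinOrder_of_finite w).mem_powers_iff_mem_zpowers.2 ha
  simp only at haa ⊢
  rw [← pow_add, ← orderOf_dvd_iff_pow_eq_one, hn, ← hkn, ← two_mul] at haa
  obtain ⟨c, rfl⟩ := Nat.dvd_of_mul_dvd_mul_left (by norm_num) haa
  have htt : t * t = 1 := by rw [← hk, ← pow_add, ← two_mul, hkn, ← hn, pow_orderOf_eq_one]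
  rw [pow_mul, hk]
  rcases c.even_or_odd with ⟨d, rfl⟩ | ⟨d, rfl⟩
  · exact Or.inl (by rw [← two_mul, pow_mul, sq, htt, one_pow])
  · exact Or.inr (by rw [pow_succ, pow_mul, sq, htt, one_pow, one_mul])

omit [Fintype G] in
theorem ne_one_of_order_two (ht : orderOf t = 2) : t ≠ 1 := by
  rintro rfl
  simp at ht

/-- Fusion of the `t`-section is controlled by `C(t)`. -/
theorem mem_cent_of_conj (ht : orderOf t = 2) (hn : orderOf w = n) {k : ℕ} (hk : w ^ k = t)
    (hkn : 2 * k = n) {x g : G} {i : ℕ} (hx : x ^ i = t)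
    (hg : g⁻¹ * x * g ∈ Subgroup.zpowers w) : g ∈ Subgroup.centralizer ({t} : Set G) := by
  have h1 : g⁻¹ * t * g ∈ Subgroup.zpowers w := by
    have h := pow_mem hg i
    have e : (g⁻¹ * x * g) ^ i = g⁻¹ * t * g := by simpa [hx] using conj_pow (a := g⁻¹) (b := x) (i := i)
    rwa [e] at h
  have htt : t * t = 1 := by rw [← sq, ← ht, pow_orderOf_eq_one]
  have h2 : (g⁻¹ * t * g) * (g⁻¹ * t * g) = 1 := by
    rw [show (g⁻¹ * t * g) * (g⁻¹ * t * g) = g⁻¹ * (t * t) * g by group, htt]; group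
  rcases eq_one_or_t hn hk hkn h1 h2 with e | e
  · exact absurd (by rw [show t = g * (g⁻¹ * t * g) * g⁻¹ by group, e]; group) (ne_one_of_order_two ht)
  · rw [Subgroup.mem_centralizer_singleton_iff]
    rw [mul_assoc, inv_mul_eq_iff_eq_mul] at e
    exact e.symm

open Classical in
/-- The value of an induced function on the `t`-section. -/
theorem indFun_pow (ht : orderOf t = 2) (hn : orderOf w = n) {k : ℕ} (hk : w ^ k = t) (hkn : 2 * k = n)
    (f : Subgroup.zpowers w → ℂ) {v : G} {j i : ℕ} (hv : (v ^ j) ^ i = t) :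
    indFun (Subgroup.zpowers w) f (v ^ j) = (n : ℂ)⁻¹ *
      ∑ m ∈ Finset.range n, (cnt t v w j m : ℂ) * f (⟨w, Subgroup.mem_zpowers w⟩ ^ m) := by
  rw [indFun, Nat.card_zpowers, hn]
  congr 1
  have key : ∀ g : G, extendByZero (Subgroup.zpowers w) f (g⁻¹ * v ^ j * g) =
      ∑ m ∈ Finset.range n, if v ^ j * g = g * w ^ m then f (⟨w, Subgroup.mem_zpowers w⟩ ^ m) else 0 := by
    intro g
    have hiff : ∀ m : ℕ, v ^ j * g = g * w ^ m ↔ g⁻¹ * v ^ j * g = w ^ m := fun m => by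
      rw [mul_assoc g⁻¹, inv_mul_eq_iff_eq_mul]
    by_cases hm : g⁻¹ * v ^ j * g ∈ Subgroup.zpowers w
    · obtain ⟨m, hmn, hme⟩ : ∃ m < n, w ^ m = g⁻¹ * v ^ j * g := by
        obtain ⟨m, hme⟩ := (isOfFinOrder_of_finite w).mem_powers_iff_mem_zpowers.2 hm
        refine ⟨m % n, Nat.mod_lt _ (hn ▸ orderOf_pos w), ?_⟩
        rw [← hn, pow_mod_orderOf]; exact hme
      rw [Finset.sum_eq_single m, if_pos ((hiff m).2 hme.symm), Char.extendByZero_mem _ _ hm]
      · exact congrArg f (Subtype.ext (by simp [hme]))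
      · intro m' hm' hne
        refine if_neg fun e => hne ?_
        have e' := ((hiff m').1 e).symm.trans hme.symm
        exact pow_injOn_Iio_orderOf (x := w) (by simpa [hn] using Finset.mem_range.1 hm') (by simpa [hn] using hmn) e'
      · exact fun e => absurd (Finset.mem_range.2 hmn) e
    · rw [Char.extendByZero_not_mem _ _ hm, Finset.sum_eq_zero]
      intro m _
      refine if_neg fun e => hm ?_
      rw [(hiff m).1 e]
      exact Subgroup.npow_mem_zpowers w m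
  rw [Finset.sum_congr rfl fun g _ => key g, Finset.sum_comm]
  refine Finset.sum_congr rfl fun m _ => ?_
  rw [← Finset.sum_filter, Finset.sum_const, nsmul_eq_mul, cnt]
  congr 2
  rw [← Fintype.card_subtype, ← Nat.card_eq_fintype_card]
  refine Nat.card_congr ⟨fun g => ⟨⟨g.1, ?_⟩, g.2⟩, fun g => ⟨g.1.1, g.2⟩, fun g => rfl, fun g => rfl⟩
  refine mem_cent_of_conj ht hn hk hkn hv ?_
  rw [mul_assoc, g.2, inv_mul_cancel_left]
  exact Subgroup.npow_mem_zpowers w m

theorem classInner_indFun (hn : orderOf w = n) (f : Subgroup.zpowers w → ℂ) {F : G → ℂ}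
    (hF : IsClassFunction G F) :
    classInner (indFun (Subgroup.zpowers w) f) F =
      (n : ℂ)⁻¹ * ∑ m ∈ Finset.range n, f (⟨w, Subgroup.mem_zpowers w⟩ ^ m) * conj (F (w ^ m)) := by
  classical
  rw [Char.frobenius_reciprocity _ f hF, classInner, Nat.card_zpowers, hn, sum_zpowers hn]
  simp only [SubgroupClass.coe_pow]

/-- Pairs of conjugates of `t` with product in the `t`-section. -/
theorem pair_count (ht : orderOf t = 2) (hall : ∀ g : G, g * g = 1 → g ≠ 1 → IsConj t g)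
    {x : G} {i : ℕ} (hx : x ^ i = t) :
    Nat.card {p : G × G // IsConj t p.1 ∧ IsConj t p.2 ∧ p.1 * p.2 = x} = inverting t x := by
  have htt : t * t = 1 := by rw [← sq, ← ht, pow_orderOf_eq_one]
  have hinv : ∀ a : G, IsConj t a → a * a = 1 ∧ a ≠ 1 := by
    intro a ha
    obtain ⟨c, rfl⟩ := isConj_iff.1 ha
    refine ⟨by rw [show c * t * c⁻¹ * (c * t * c⁻¹) = c * (t * t) * c⁻¹ by group, htt]; group, fun e => ?_⟩
    exact ne_one_of_order_two ht (by rw [show t = c⁻¹ * (c * t * c⁻¹) * c by group, e]; group)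
  refine Nat.card_congr ⟨fun p => ⟨⟨p.1.1, ?_⟩, ?_⟩,
    fun g => ⟨((g.1 : G), (g.1 : G) * x), ?_⟩, ?_, ?_⟩
  · obtain ⟨⟨a, b⟩, ha, hb, rfl⟩ := p
    simp only at *
    obtain ⟨haa, -⟩ := hinv a ha
    obtain ⟨hbb, -⟩ := hinv b hb
    have e : a * (a * b) * a⁻¹ = (a * b)⁻¹ := by
      rw [mul_inv_rev, inv_eq_of_mul_eq_one_right haa, inv_eq_of_mul_eq_one_right hbb,
        ← mul_assoc, haa, one_mul]
    have e2 := congrArg (· ^ i) e
    simp only [conj_pow, inv_pow, hx, inv_eq_of_mul_eq_one_right htt] at e2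
    rw [Subgroup.mem_centralizer_singleton_iff]
    exact mul_inv_eq_iff_eq_mul.1 e2
  · obtain ⟨⟨a, b⟩, ha, hb, rfl⟩ := p
    simp only at *
    obtain ⟨haa, ha1⟩ := hinv a ha
    obtain ⟨hbb, hb1⟩ := hinv b hb
    refine ⟨haa, ha1, fun e => hb1 (mul_eq_left.1 e.symm), ?_⟩
    rw [show a * (a * b) * a * (a * b) = (a * a) * b * (a * a) * b by group, haa]
    simpa using hbb
  · obtain ⟨g, hgg, hg1, hgx, hgxgx⟩ := g
    have hsq : (g : G) * x * ((g : G) * x) = 1 := by rw [← hgxgx]; group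
    refine ⟨hall _ hgg hg1, hall _ hsq fun e => hgx ?_, by rw [← mul_assoc, hgg, one_mul]⟩
    rw [← mul_one (g : G), ← e, ← mul_assoc, hgg, one_mul]
  · rintro ⟨⟨a, b⟩, ha, hb, rfl⟩
    refine Subtype.ext (Prod.ext rfl ?_)
    simp only at *
    rw [← mul_assoc, (hinv a ha).1, one_mul]
  · rintro ⟨g, hg⟩
    rfl

/-- The class multiplication formula summed against a function on the `t`-section. -/
theorem class_sum [Fintype (IrrCharacter G)] (ht : orderOf t = 2)
    (hall : ∀ g : G, g * g = 1 → g ≠ 1 → IsConj t g) (hn : orderOf w = n)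
    (f : Subgroup.zpowers w → ℂ)
    (hsupp : ∀ m ∈ Finset.range n, f (⟨w, Subgroup.mem_zpowers w⟩ ^ m) = 0 ∨ ∃ i, (w ^ m) ^ i = t)
    (hc : Nat.card (Subgroup.centralizer ({t} : Set G)) = 48) :
    (Nat.card G : ℂ) * ∑ χ : IrrCharacter G,
        classInner (indFun (Subgroup.zpowers w) f) (χ : G → ℂ) * (χ : G → ℂ) t ^ 2 / (χ : G → ℂ) 1 =
      2304 * ((n : ℂ)⁻¹ *
        ∑ m ∈ Finset.range n, f (⟨w, Subgroup.mem_zpowers w⟩ ^ m) * (inverting t (w ^ m) : ℂ)) := by
  set N := (Nat.card {g : G // IsConj t g} : ℂ) with hN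
  have hNG : N * 48 = (Nat.card G : ℂ) := by
    rw [hN, ← Char.card_conjugates_mul_card_centralizer t, hc]; push_cast; rfl
  have hG0 : (Nat.card G : ℂ) ≠ 0 := Nat.cast_ne_zero.2 Nat.card_pos.ne'
  have key : ∀ m ∈ Finset.range n,
      f (⟨w, Subgroup.mem_zpowers w⟩ ^ m) * (inverting t (w ^ m) : ℂ) =
      (Nat.card G : ℂ) / 2304 * ∑ χ : IrrCharacter G,
        f (⟨w, Subgroup.mem_zpowers w⟩ ^ m) *
          conj ((χ : G → ℂ) (w ^ m)) * ((χ : G → ℂ) t ^ 2 / (χ : G → ℂ) 1) := by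
    intro m hm
    rcases hsupp m hm with h0 | ⟨i, hi⟩
    · rw [h0]; simp
    rw [← pair_count ht hall hi, Char.class_mult_formula t t (w ^ m), ← hN]
    have e : N * N / (Nat.card G : ℂ) = (Nat.card G : ℂ) / 2304 := by
      rw [← hNG]; field_simp; ring
    rw [e, Finset.mul_sum, Finset.mul_sum, Finset.mul_sum]
    exact Finset.sum_congr rfl fun χ _ => by ring
  rw [Finset.sum_congr rfl key, ← Finset.mul_sum, Finset.sum_comm]
  rw [Finset.mul_sum, Finset.mul_sum, Finset.mul_sum, Finset.mul_sum]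
  refine Finset.sum_congr rfl fun χ _ => ?_
  rw [classInner_indFun hn f (Char.IsIrrCharacter.isClassFunction χ.2), ← Finset.sum_mul]
  field_simp

end Cfsg.Agent.GLThree
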