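import Cfsg.Agent.Lib.BSW.Dual

/-!
# The signed decomposition and the degree equations for centralisers `GL(2,3)`

`shape`: the five characters occurring in the three lifted functions. `order_arith`: the order.
-/

set_option autoImplicit false

namespace Cfsg.Agent.GLThree

variable {ι : Type*} [Fintype ι] [DecidableEq ι]

set_option linter.unusedSectionVars false

theorem unit_cases {x : ℤ} (h : x * x = 1) : x = 1 ∨ x = -1 := mul_self_eq_one_iff.1 h

theorem le_total (w : ι → ℤ) (s : Finset ι) : ∑ c ∈ s, w c * w c ≤ ∑ c, w c * w c :=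
  Finset.sum_le_sum_of_subset_of_nonneg (Finset.subset_univ _) fun _ _ _ => mul_self_nonneg _

/-- A vector whose norm is used up on `s` vanishes outside `s`. -/
theorem vanish_outside {w : ι → ℤ} {s : Finset ι} {k : ℤ} (h : ∑ c, w c * w c = k)
    (hs : ∑ c ∈ s, w c * w c = k) {c : ι} (hc : c ∉ s) : w c = 0 := by
  have h1 := le_total w (insert c s)
  rw [Finset.sum_insert hc, h, hs] at h1
  exact mul_self_eq_zero.1 (le_antisymm (by linarith) (mul_self_nonneg _))

theorem norm_two {w : ι → ℤ} {x y : ι} (hxy : x ≠ y) :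
    ∑ c ∈ ({x, y} : Finset ι), w c * w c = w x * w x + w y * w y := Finset.sum_pair hxy

theorem norm_three {w : ι → ℤ} {x y z : ι} (hxy : x ≠ y) (hxz : x ≠ z) (hyz : y ≠ z) :
    ∑ c ∈ ({x, y, z} : Finset ι), w c * w c = w x * w x + w y * w y + w z * w z := by
  rw [Finset.sum_insert (by simp [hxy, hxz]), Finset.sum_pair hyz, add_assoc]

theorem dot_three {w w' : ι → ℤ} {x y z : ι} (hxy : x ≠ y) (hxz : x ≠ z) (hyz : y ≠ z)
    (h : ∀ c, c ∉ ({x, y, z} : Finset ι) → w c = 0) :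
    ∑ c, w c * w' c = w x * w' x + w y * w' y + w z * w' z := by
  rw [← Finset.sum_subset (Finset.subset_univ ({x, y, z} : Finset ι)) fun c _ hc => by rw [h c hc, zero_mul],
    Finset.sum_insert (by simp [hxy, hxz]), Finset.sum_pair hyz, add_assoc]

theorem dot_three_rat {w : ι → ℤ} {w' : ι → ℚ} {x y z : ι} (hxy : x ≠ y) (hxz : x ≠ z) (hyz : y ≠ z)
    (h : ∀ c, c ∉ ({x, y, z} : Finset ι) → w c = 0) :
    ∑ c, (w c : ℚ) * w' c = w x * w' x + w y * w' y + w z * w' z := by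
  rw [← Finset.sum_subset (Finset.subset_univ ({x, y, z} : Finset ι)) fun c _ hc => by
      rw [h c hc, Int.cast_zero, zero_mul],
    Finset.sum_insert (by simp [hxy, hxz]), Finset.sum_pair hyz, add_assoc]

/-- The remaining point of a vector of norm three with two known points. -/
theorem third {w : ι → ℤ} {x y : ι} (hxy : x ≠ y) (h : ∑ c, w c * w c = 3) (hx : w x * w x = 1)
    (hy : w y * w y = 1) : ∃ z, z ≠ x ∧ z ≠ y ∧ w z * w z = 1 ∧
      ∀ c, c ∉ ({x, y, z} : Finset ι) → w c = 0 := by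
  have h1 : ∑ c ∈ ({x, y} : Finset ι)ᶜ, w c * w c = 1 := by
    rw [← Finset.sum_compl_add_sum ({x, y} : Finset ι), norm_two hxy, hx, hy] at h
    omega
  obtain ⟨z, hz, hz1, -⟩ := BSW.exists_single _ h1
  simp only [Finset.mem_compl, Finset.mem_insert, Finset.mem_singleton, not_or] at hz
  exact ⟨z, hz.1, hz.2, hz1, fun c hc => vanish_outside h
    (by rw [norm_three hxy (Ne.symm hz.1) (Ne.symm hz.2), hx, hy, hz1]; norm_num) hc⟩

/-- The two supports of norm two meet in one point. -/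
theorem overlap {deg a b : ι → ℤ} (hdeg : ∀ c, 0 < deg c) (haa : ∑ c, a c * a c = 2)
    (hbb : ∑ c, b c * b c = 2) (hab : ∑ c, a c * b c = -1)
    (had : ∑ c, a c * deg c = 0) (hbd : ∑ c, b c * deg c = 0) :
    ∃ p q r : ι, p ≠ q ∧ r ≠ q ∧ r ≠ p ∧ a p * a p = 1 ∧ a q * a q = 1 ∧ b r * b r = 1 ∧
      a r = 0 ∧ b p = 0 ∧ b q = -a q ∧ a q * deg q ≠ 0 ∧
      a p * deg p = -(a q * deg q) ∧ b r * deg r = a q * deg q ∧
      (∀ x : ι → ℤ, ∑ c, a c * x c = a p * x p + a q * x q) ∧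
      (∀ x : ι → ℤ, ∑ c, b c * x c = -(a q * x q) + b r * x r) := by
  obtain ⟨p₀, q₀, hpq₀, hap₀, haq₀, ha₀⟩ := BSW.exists_supp_two haa
  have hb1 : ∀ c, -1 ≤ b c ∧ b c ≤ 1 := BSW.entry_le_one (by omega)
  have h1 := (BSW.dot_of_supp hpq₀ ha₀ (w' := b)).symm.trans hab
  obtain ⟨p, q, hpq, hap, haq, ha0, hbp, hbq⟩ : ∃ p q : ι, p ≠ q ∧ a p * a p = 1 ∧ a q * a q = 1 ∧
      (∀ c, c ≠ p → c ≠ q → a c = 0) ∧ b p = 0 ∧ b q = -a q := by
    obtain ⟨hp1, hp2⟩ := hb1 p₀
    obtain ⟨hq1, hq2⟩ := hb1 q₀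
    by_cases hb : b p₀ = 0
    · refine ⟨p₀, q₀, hpq₀, hap₀, haq₀, ha₀, hb, ?_⟩
      rcases unit_cases haq₀ with h | h <;> rw [hb, h] at h1 <;> rw [h] <;> omega
    · refine ⟨q₀, p₀, hpq₀.symm, haq₀, hap₀, fun c x y => ha₀ c y x, ?_, ?_⟩ <;>
        rcases unit_cases haq₀ with h | h <;> rcases unit_cases hap₀ with h' | h' <;>
        rw [h, h'] at h1 <;> (try rw [h']) <;> omega
  have hbq2 : b q * b q = 1 := by rw [hbq, neg_mul_neg, haq]
  have hbrest : ∑ c ∈ Finset.univ.erase q, b c * b c = 1 := by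
    rw [← Finset.add_sum_erase _ _ (Finset.mem_univ q), hbq2] at hbb
    omega
  obtain ⟨r, hr, hbr, hb0'⟩ := BSW.exists_single _ hbrest
  have hrq : r ≠ q := Finset.ne_of_mem_erase hr
  have hrp : r ≠ p := by rintro rfl; simp [hbp] at hbr
  have dota : ∀ x : ι → ℤ, ∑ c, a c * x c = a p * x p + a q * x q := fun x => BSW.dot_of_supp hpq ha0
  have dotb : ∀ x : ι → ℤ, ∑ c, b c * x c = -(a q * x q) + b r * x r := fun x => by
    rw [BSW.dot_of_supp hrq.symm (fun c h1 h2 => hb0' c (Finset.mem_erase.2 ⟨h1, Finset.mem_univ c⟩) h2), hbq]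
    ring
  rw [dota] at had
  rw [dotb] at hbd
  refine ⟨p, q, r, hpq, hrq, hrp, hap, haq, hbr, ha0 r hrp hrq, hbp, hbq, ?_, by linarith, by linarith,
    dota, dotb⟩
  exact mul_ne_zero (fun h => by simp [h] at haq) (hdeg q).ne'

/-- The shape of the lifted functions: `1 + p + s`, `1 + u + v` and `-s + u + w` up to signs. -/
theorem shape {o : ι} {deg a b e f g : ι → ℤ} (hdeg0 : deg o = 1) (hdeg : ∀ c, 0 < deg c)
    (haa : ∑ c, a c * a c = 2) (hbb : ∑ c, b c * b c = 2) (hee : ∑ c, e c * e c = 3)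
    (hff : ∑ c, f c * f c = 3) (hgg : ∑ c, g c * g c = 3)
    (hab : ∑ c, a c * b c = -1) (hae : ∑ c, a c * e c = 0) (haf : ∑ c, a c * f c = 0)
    (hag : ∑ c, a c * g c = 1) (hbe : ∑ c, b c * e c = 0) (hbf : ∑ c, b c * f c = 0)
    (hbg : ∑ c, b c * g c = 0) (heg : ∑ c, e c * g c = 1) (hef : ∑ c, e c * f c = 1)
    (hfg : ∑ c, f c * g c = -1)
    (hao : a o = 0) (hbo : b o = 0) (heo : e o = 1) (hfo : f o = 0) (hgo : g o = 1)
    (had : ∑ c, a c * deg c = 0) (hbd : ∑ c, b c * deg c = 0)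
    (hfd : ∑ c, f c * deg c = 0) (hgd : ∑ c, g c * deg c = 0) :
    ∃ p s u v w : ι, ∃ σp σs σu σv σw : ℤ, (σp * σp = 1 ∧ σs * σs = 1 ∧ σu * σu = 1 ∧ σv * σv = 1 ∧ σw * σw = 1) ∧
      (p ≠ o ∧ s ≠ o ∧ u ≠ o ∧ v ≠ o ∧ w ≠ o) ∧
      (a p = σp ∧ b p = 0 ∧ g p = σp ∧ e p = 0 ∧ f p = 0) ∧
      (a s = 0 ∧ b s = 0 ∧ g s = σs ∧ e s = 0 ∧ f s = -σs) ∧
      (a u = 0 ∧ b u = 0 ∧ g u = 0 ∧ e u = σu ∧ f u = σu) ∧
      (a v = 0 ∧ b v = 0 ∧ g v = 0 ∧ e v = σv ∧ f v = 0) ∧
      (a w = 0 ∧ b w = 0 ∧ g w = 0 ∧ e w = 0 ∧ f w = σw) ∧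
      (∀ x : ι → ℚ, ∑ c, (g c : ℚ) * x c = x o + σp * x p + σs * x s) ∧
      (∀ x : ι → ℚ, ∑ c, (e c : ℚ) * x c = x o + σu * x u + σv * x v) ∧
      (∀ x : ι → ℚ, ∑ c, (f c : ℚ) * x c = -σs * x s + σu * x u + σw * x w) := by
  obtain ⟨p, q, r, hpq, hrq, hrp, hap, haq, hbr, har, hbp, hbq, hdq, hdp, hdr, dota, dotb⟩ :=
    overlap hdeg haa hbb hab had hbd
  rw [dota] at hae haf hag
  rw [dotb] at hbe hbf hbg
  have hop : o ≠ p := by rintro rfl; simp [hao] at hap
  have hoq : o ≠ q := by rintro rfl; simp [hao] at haq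
  have hor : o ≠ r := by rintro rfl; simp [hbo] at hbr
  have he1 := BSW.entry_le_one (w := e) (by omega)
  have hf1 := BSW.entry_le_one (w := f) (by omega)
  have hg1 := BSW.entry_le_one (w := g) (by omega)
  -- the values on the two-element supports
  have key : ∀ x : ι → ℤ, (∀ c, -1 ≤ x c ∧ x c ≤ 1) → a q * x q = 0 ∨
      (x q * x q = 1 ∧ (b r * x r = a q * x q → x r * x r = 1)) := by
    intro x hx
    obtain ⟨h1, h2⟩ := hx q
    obtain ⟨h3, h4⟩ := hx r
    rcases unit_cases haq with h | h <;> rcases unit_cases hbr with h' | h' <;>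
      interval_cases (x q) <;> interval_cases (x r) <;> norm_num [h, h']
  have hz : ∀ {σ x : ℤ}, σ * σ = 1 → σ * x = 0 → x = 0 := fun hσ h =>
    (mul_eq_zero.1 h).resolve_left fun h' => by simp [h'] at hσ
  have hgq : g q = 0 ∧ g r = 0 ∧ g p = a p := by
    rcases key g hg1 with h0 | ⟨hq1, hr1⟩
    · refine ⟨hz haq h0, hz hbr (by linarith), ?_⟩
      rcases unit_cases hap with h | h <;> rw [h] at hag ⊢ <;> omega
    exfalso
    have hr1' := hr1 (by linarith)
    have hsupp : ∀ c, c ∉ ({o, q, r} : Finset ι) → g c = 0 := fun c => vanish_outside hgg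
      (by rw [norm_three hoq hor hrq.symm, hgo, hq1, hr1']; norm_num)
    have hgp : g p = 0 := hsupp p (by simp [hop.symm, hpq, hrp.symm])
    rw [hgp, mul_zero, zero_add] at hag
    rw [dot_three hoq hor hrq.symm hsupp, hgo, hdeg0] at hgd
    have e1 : g q = a q := by rcases unit_cases haq with h | h <;> rw [h] at hag ⊢ <;> omega
    have e2 : g r = b r := by rcases unit_cases hbr with h | h <;> rw [h] at hbg ⊢ <;> omega
    rw [e1, e2, hdr] at hgd
    omega
  obtain ⟨hgq, hgr, hgp⟩ := hgq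
  have heq : e q = 0 ∧ e r = 0 ∧ e p = 0 := by
    rcases key e he1 with h0 | ⟨hq1, hr1⟩
    · exact ⟨hz haq h0, hz hbr (by linarith), hz hap (by linarith)⟩
    exfalso
    have hr1' := hr1 (by linarith)
    have hsupp : ∀ c, c ∉ ({o, q, r} : Finset ι) → e c = 0 := fun c => vanish_outside hee
      (by rw [norm_three hoq hor hrq.symm, heo, hq1, hr1']; norm_num)
    have hep : e p = 0 := hsupp p (by simp [hop.symm, hpq, hrp.symm])
    rw [hep, mul_zero, zero_add] at hae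
    have := hz haq hae
    simp [this] at hq1
  obtain ⟨heq, her, hep⟩ := heq
  have hfq : f q = 0 ∧ f r = 0 ∧ f p = 0 := by
    rcases key f hf1 with h0 | ⟨hq1, hr1⟩
    · exact ⟨hz haq h0, hz hbr (by linarith), hz hap (by linarith)⟩
    exfalso
    have hr1' := hr1 (by linarith)
    have e2 : f r = b r * (a q * f q) := by linear_combination b r * hbf - f r * hbr
    have e3 : f p = -(a p * (a q * f q)) := by linear_combination a p * haf - f p * hap
    have hp1 : f p * f p = 1 := by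
      rw [e3]
      linear_combination a q * a q * (f q * f q) * hap + f q * f q * haq + hq1
    have hsupp : ∀ c, c ∉ ({p, q, r} : Finset ι) → f c = 0 := fun c => vanish_outside hff
      (by rw [norm_three hpq hrp.symm hrq.symm, hp1, hq1, hr1']; norm_num)
    rw [dot_three hpq hrp.symm hrq.symm hsupp, e2, e3] at hfd
    have h3 : a q * f q * (3 * (a q * deg q)) = 0 := by
      linear_combination hfd + a q * f q * hdp - a q * f q * hdr + f q * deg q * haq
    rcases mul_eq_zero.1 h3 with h | h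
    · have := hz haq h
      simp [this] at hq1
    · omega
  obtain ⟨hfq, hfr, hfp⟩ := hfq
  obtain ⟨s, hso, hsp, hgs, hg0⟩ := third hop hgg (by rw [hgo]; norm_num) (by rw [hgp, hap])
  have dotg : ∀ x : ι → ℤ, ∑ c, g c * x c = x o + a p * x p + g s * x s := fun x => by
    rw [dot_three hop hso.symm hsp.symm hg0, hgo, hgp, one_mul]
  -- the second function
  have hes : e s = 0 := by
    have h : ∑ c, g c * e c = 1 := by rw [← heg]; exact Finset.sum_congr rfl fun c _ => mul_comm _ _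
    rw [dotg, heo, hep] at h
    exact hz hgs (by linarith)
  obtain ⟨x, y, hxy, hex, hey, he0⟩ := BSW.exists_supp_two (w := fun c => if c = o then 0 else e c) (by
    rw [← Finset.add_sum_erase _ _ (Finset.mem_univ o), if_pos rfl, zero_mul, zero_add,
      Finset.sum_congr rfl fun c hc => by rw [if_neg (Finset.ne_of_mem_erase hc)]]
    rw [← Finset.add_sum_erase _ _ (Finset.mem_univ o), heo] at hee
    omega)
  have hxo : x ≠ o := fun h => by rw [if_pos h] at hex; simp at hex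
  have hyo : y ≠ o := fun h => by rw [if_pos h] at hey; simp at hey
  rw [if_neg hxo] at hex
  rw [if_neg hyo] at hey
  have hsupe : ∀ c, c ∉ ({o, x, y} : Finset ι) → e c = 0 := fun c => vanish_outside hee
    (by rw [norm_three hxo.symm hyo.symm hxy, heo, hex, hey]; norm_num)
  have hfs : f s = -g s := by
    have h : ∑ c, g c * f c = -1 := by rw [← hfg]; exact Finset.sum_congr rfl fun c _ => mul_comm _ _
    rw [dotg, hfo, hfp] at h
    rcases unit_cases hgs with e | e <;> rw [e] at h ⊢ <;> omega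
  -- exactly one common point with the third
  have hef' := (dot_three hxo.symm hyo.symm hxy hsupe (w' := f)).symm.trans hef
  rw [hfo, mul_zero, zero_add] at hef'
  obtain ⟨u, v, huo, hvo, huv, heu, hev, hfu, hfv, hsupe⟩ : ∃ u v : ι, u ≠ o ∧ v ≠ o ∧ u ≠ v ∧
      e u * e u = 1 ∧ e v * e v = 1 ∧ f u = e u ∧ f v = 0 ∧
      (∀ c, c ∉ ({o, u, v} : Finset ι) → e c = 0) := by
    obtain ⟨hx1, hx2⟩ := hf1 x
    obtain ⟨hy1, hy2⟩ := hf1 y
    by_cases hfy : f y = 0
    · refine ⟨x, y, hxo, hyo, hxy, hex, hey, ?_, hfy, hsupe⟩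
      rw [hfy, mul_zero, add_zero] at hef'
      rcases unit_cases hex with h | h <;> rw [h] at hef' ⊢ <;> omega
    · refine ⟨y, x, hyo, hxo, hxy.symm, hey, hex, ?_, ?_, fun c hc => hsupe c (by rwa [Finset.pair_comm] at hc)⟩ <;>
        rcases unit_cases hex with h | h <;> rcases unit_cases hey with h' | h' <;>
        rw [h, h'] at hef' <;> (try rw [h']) <;> omega
  have hsu : s ≠ u := by rintro rfl; simp [hes] at heu
  obtain ⟨w, hws, hwu, hfw, hf0⟩ := third hsu hff (by rw [hfs, neg_mul_neg, hgs]) (by rw [hfu, heu])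
  have ha : ∀ c, c ≠ p → c ≠ q → a c = 0 := fun c h1 h2 => vanish_outside haa
    (s := {p, q}) (by rw [norm_two hpq, hap, haq]; norm_num) (by simp [h1, h2])
  have hb : ∀ c, c ≠ q → c ≠ r → b c = 0 := fun c h1 h2 => vanish_outside hbb
    (s := {q, r}) (by rw [norm_two hrq.symm, hbr, hbq, neg_mul_neg, haq]; norm_num) (by simp [h1, h2])
  have hwo : w ≠ o := by rintro rfl; simp [hfo] at hfw
  have hwp : w ≠ p := by rintro rfl; simp [hfp] at hfw
  have hup : u ≠ p := by rintro rfl; simp [hep] at heu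
  have hvp : v ≠ p := by rintro rfl; simp [hep] at hev
  have hsv : s ≠ v := by rintro rfl; simp [hes] at hev
  have hwv : w ≠ v := by rintro rfl; simp [hfv] at hfw
  have hsq : s ≠ q := by rintro rfl; simp [hgq] at hgs
  have hsr : s ≠ r := by rintro rfl; simp [hgr] at hgs
  have huq : u ≠ q := by rintro rfl; simp [heq] at heu
  have hur : u ≠ r := by rintro rfl; simp [her] at heu
  have hvq : v ≠ q := by rintro rfl; simp [heq] at hev
  have hvr : v ≠ r := by rintro rfl; simp [her] at hev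
  have hwq : w ≠ q := by rintro rfl; simp [hfq] at hfw
  have hwr : w ≠ r := by rintro rfl; simp [hfr] at hfw
  refine ⟨p, s, u, v, w, a p, g s, e u, e v, f w, ⟨hap, hgs, heu, hev, hfw⟩,
    ⟨hop.symm, hso, huo, hvo, hwo⟩, ⟨rfl, hbp, hgp, hep, hfp⟩,
    ⟨ha s hsp hsq, hb s hsq hsr, rfl, hes, hfs⟩,
    ⟨ha u hup huq, hb u huq hur, hg0 u (by simp [huo, hup, hsu.symm]), rfl, hfu⟩,
    ⟨ha v hvp hvq, hb v hvq hvr, hg0 v (by simp [hvo, hvp, hsv.symm]), rfl, hfv⟩,
    ⟨ha w hwp hwq, hb w hwq hwr, hg0 w (by simp [hwo, hwp, hws]), hsupe w (by simp [hwo, hwu, hwv]), rfl⟩,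
    fun x => ?_, fun x => ?_, fun x => ?_⟩
  · rw [dot_three_rat hop hso.symm hsp.symm hg0, hgo, hgp, Int.cast_one, one_mul]
  · rw [dot_three_rat huo.symm hvo.symm huv hsupe, heo, Int.cast_one, one_mul]
  · rw [dot_three_rat hsu hws.symm hwu.symm hf0, hfs, hfu, Int.cast_neg]

/-- The equations between the degrees determine the order. -/
theorem order_arith {N : ℚ} {r p V S W : ℤ} (hN : N ≠ 0) (hr : r ≠ 0) (hp : p ≠ 0) (hV : V ≠ 0)
    (hS : S ≠ 0) (hW : W ≠ 0) (hW1 : W ≠ 1) (hr8 : 8 ∣ r + 4) (hp8 : 8 ∣ p + 6)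
    (eV : 1 + r + V = 0) (eS : S = 1 + p) (eW : S + r + W = 0)
    (h2 : N * (1 + 16 / r + 9 / V) = 9216) (h3 : N * (9 / S + 16 / r + 1 / W) = 9216)
    (h5 : N * (1 + 4 / p - 9 / S) = 4608) : N = 5616 ∨ N = 7920 := by
  have hrq : (r : ℚ) ≠ 0 := Int.cast_ne_zero.2 hr
  have hpq : (p : ℚ) ≠ 0 := Int.cast_ne_zero.2 hp
  have hVq : (V : ℚ) ≠ 0 := Int.cast_ne_zero.2 hV
  have hSq : (S : ℚ) ≠ 0 := Int.cast_ne_zero.2 hS
  have hWq : (W : ℚ) ≠ 0 := Int.cast_ne_zero.2 hW
  have he : (1 : ℚ) + 9 / V = 9 / S + 1 / W := by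
    have h := mul_left_cancel₀ hN (h2.trans h3.symm)
    linarith
  field_simp at he
  have heq : (V + 9) * S * W = V * (9 * W + S) := by
    have : (((V + 9) * S * W : ℤ) : ℚ) = ((V * (9 * W + S) : ℤ) : ℚ) := by push_cast; linarith
    exact_mod_cast this
  obtain ⟨u, rfl⟩ : ∃ u, r = u - 1 := ⟨r + 1, by ring⟩
  obtain ⟨v, rfl⟩ : ∃ v, p = v - 1 := ⟨p + 1, by ring⟩
  obtain rfl : S = v := by omega
  obtain rfl : V = -u := by omega
  obtain rfl : W = -(u + S - 1) := by omega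
  have h4 : (u + S) * (u * S - 9 * (u + S - 1)) = 0 := by linear_combination heq
  have h6 : (u - 9) * (S - 9) = 72 := by
    rcases mul_eq_zero.1 h4 with h | h
    · exact absurd (by omega) hW1
    · linarith
  have hd : (u - 9) ∣ 72 := ⟨S - 9, h6.symm⟩
  have hu1 : u - 9 ≤ 72 := Int.le_of_dvd (by norm_num) hd
  have hu2 : -(u - 9) ≤ 72 := Int.le_of_dvd (by norm_num) (Int.neg_dvd.2 hd)
  have hl : -63 ≤ u := by omega
  have hu' : u ≤ 81 := by omega
  have hcases : (u = 13 ∧ S = 27) ∨ (u = 45 ∧ S = 11) ∨ (u = -3 ∧ S = 3) := by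
    interval_cases u <;> omega
  rcases hcases with ⟨rfl, rfl⟩ | ⟨rfl, rfl⟩ | ⟨rfl, rfl⟩
  · left; norm_num at h5; linarith
  · right; norm_num at h5; linarith
  · exact absurd (by norm_num) hW1

end Cfsg.Agent.GLThree
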