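import Cfsg.Agent.Lib.GLThree.Induced
import Cfsg.Agent.Lib.GLThree.Vectors
import Cfsg.Agent.Lib.ZStar.IsolatedCenter
import Cfsg.Agent.Lib.Char.Linear

/-!
# The order of a simple group with an involution centraliser `GL(2,3)`

`card_eq`: the order is `5616` or `7920`.
-/

set_option autoImplicit false

open scoped ComplexConjugate

namespace Cfsg.Agent.GLThree

open Cfsg Cfsg.Agent

/-- The values needed on `zpowers w`: `1 - ζ ^ (a * m)`. -/
noncomputable def phi {G : Type*} [Group G] {w : G} (l : Subgroup.zpowers w →* ℂˣ) (a : ℕ) :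
    Subgroup.zpowers w → ℂ :=
  BSW.lin 1 - BSW.lin (l ^ a)

/-- The values needed on `zpowers z`: `η ^ (2 * m) - η ^ (5 * m)`. -/
noncomputable def beta {G : Type*} [Group G] {w : G} (l : Subgroup.zpowers w →* ℂˣ) :
    Subgroup.zpowers w → ℂ :=
  BSW.lin (l ^ 2) - BSW.lin (l ^ 5)

variable {G : Type*} [Group G] [Fintype G]

theorem all_conj [IsSimpleGroup G] {t y z : G} (ht : orderOf t = 2) (hL : Local t y z) :
    ∀ g : G, g * g = 1 → g ≠ 1 → IsConj t g := by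
  classical
  have : Fact (Nat.Prime 2) := ⟨Nat.prime_two⟩
  set H := Subgroup.centralizer ({t} : Set G) with hH
  have hyH : y ∈ H := Subgroup.mem_centralizer_singleton_iff.2 (by
    rw [← hL.y_four, ← pow_succ', ← pow_succ])
  have hnotcentral : ¬ ∀ g : G, g * t = t * g := by
    intro h
    have hn : (Subgroup.zpowers t).Normal := ⟨by
      rintro a ⟨i, rfl⟩ g
      exact ⟨i, by simp only; rw [((show Commute g t from h g).zpow_right i).eq, mul_inv_cancel_right]⟩⟩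
    rcases hn.eq_bot_or_eq_top with e | e
    · rw [Subgroup.zpowers_eq_bot] at e
      exact ne_one_of_order_two ht e
    · have hH' : H = ⊤ := eq_top_iff.2 fun g _ => Subgroup.mem_centralizer_singleton_iff.2 (h g)
      have h48 := hL.card_cent
      rw [← hH, hH', Subgroup.card_top, ← Subgroup.card_top, ← e, Nat.card_zpowers, ht] at h48
      norm_num at h48
  -- the centraliser of `y`
  have hCy : ∀ g ∈ H, g * y = y * g → g ∈ Subgroup.zpowers y := by
    intro g hg hgy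
    have h8 := hL.cntYY 1 (by norm_num) one_ne_zero 1 (by norm_num)
    norm_num at h8
    rw [cnt] at h8
    simp only [pow_one] at h8
    let F : Subgroup.zpowers y → {g : H // y * (g : G) = (g : G) * y} := fun x =>
      ⟨⟨x.1, (Subgroup.zpowers_le.2 hyH) x.2⟩, by
        obtain ⟨i, hi⟩ := x.2
        rw [← hi]; exact ((Commute.refl y).zpow_right i).eq⟩
    have hF : Function.Bijective F := by
      refine (Nat.bijective_iff_injective_and_card F).2 ⟨fun a b hab => ?_, ?_⟩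
      · exact Subtype.ext (congrArg (fun q => ((q.1 : H) : G)) hab)
      · rw [Nat.card_zpowers, hL.order_y, h8]
    obtain ⟨x, hx⟩ := hF.2 ⟨⟨g, hg⟩, hgy.symm⟩
    have : (x : G) = g := congrArg (fun q => ((q.1 : H) : G)) hx
    exact this ▸ x.2
  -- a Sylow 2-subgroup lies in `C(t)`
  obtain ⟨S, hS⟩ := (show IsPGroup 2 (Subgroup.zpowers y) from
    IsPGroup.of_card (n := 3) (by rw [Nat.card_zpowers, hL.order_y]; norm_num)).exists_le_sylow
  have hyS : y ∈ S := hS (Subgroup.mem_zpowers y)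
  have htS : t ∈ S := hL.y_four ▸ (S : Subgroup G).pow_mem hyS 4
  have hSH : ∀ x ∈ S, x ∈ H := by
    have : Nontrivial (S : Subgroup G) := ⟨⟨⟨t, htS⟩, 1, fun e => ne_one_of_order_two ht (congrArg Subtype.val e)⟩⟩
    have := S.2.center_nontrivial
    obtain ⟨c, hc⟩ := exists_prime_orderOf_dvd_card' (G := Subgroup.center (S : Subgroup G)) 2 (by
      obtain ⟨m, hm⟩ := IsPGroup.iff_card.1 (S.2.to_subgroup (Subgroup.center (S : Subgroup G)))
      rw [hm]
      refine dvd_pow_self 2 ?_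
      rintro rfl
      rw [pow_zero] at hm
      exact absurd hm Finite.one_lt_card.ne')
    have hc2 : orderOf ((c : (S : Subgroup G)) : G) = 2 := by rw [Subgroup.orderOf_coe, Subgroup.orderOf_coe, hc]
    set d : G := ((c : (S : Subgroup G)) : G)
    have hdS : ∀ x ∈ S, x * d = d * x := fun x hx =>
      congrArg Subtype.val (Subgroup.mem_center_iff.1 c.2 ⟨x, hx⟩)
    have hdH : d ∈ H := Subgroup.mem_centralizer_singleton_iff.2 (hdS t htS).symm
    have hd : d = 1 ∨ d = t := eq_one_or_t hL.order_y hL.y_four (by norm_num)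
      (hCy d hdH (hdS y hyS).symm) (by rw [← sq, ← hc2, pow_orderOf_eq_one])
    rcases hd with e | e
    · rw [e, orderOf_one] at hc2; norm_num at hc2
    · intro x hx
      rw [Subgroup.mem_centralizer_singleton_iff, ← e]
      exact hdS x hx
  obtain ⟨s, -, hs⟩ := hL.outer
  obtain ⟨g₀, hg₀S, hg₀⟩ : ∃ g : G, g * t * g⁻¹ ∈ S ∧ g * t * g⁻¹ ≠ t := by
    by_contra hne
    push Not at hne
    have hiso := ZStar.isolated_of_sylow S ht htS fun g hg => hne g hg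
    refine hnotcentral fun g => ?_
    have h := ZStar.zStar_of_brauerSuzuki ZStar.uniqueInvolution hiso g
    have : (pPrimeCore 2 G).Normal := Cores.pPrimeCore_normal 2 G
    rcases (inferInstance : (pPrimeCore 2 G).Normal).eq_bot_or_eq_top with e | e
    · rw [e, Subgroup.mem_bot, mul_inv_eq_one, mul_inv_eq_iff_eq_mul] at h
      exact h.symm
    · exfalso
      have hco := Cores.coprime_card_pPrimeCore (G := G) 2
      rw [e, Subgroup.card_top] at hco
      exact Nat.prime_two.coprime_iff_not_dvd.1 hco.symm (ht ▸ orderOf_dvd_natCard t)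
  have ht_sq : t * t = 1 := by rw [← sq, ← ht, pow_orderOf_eq_one]
  have hconj : IsConj t s := by
    have h1 : g₀ * t * g₀⁻¹ * (g₀ * t * g₀⁻¹) = 1 := by
      rw [show g₀ * t * g₀⁻¹ * (g₀ * t * g₀⁻¹) = g₀ * (t * t) * g₀⁻¹ by group, ht_sq]; group
    have h2 : g₀ * t * g₀⁻¹ ≠ 1 := fun e => ne_one_of_order_two ht
      (by rw [show t = g₀⁻¹ * (g₀ * t * g₀⁻¹) * g₀ by group, e]; group)
    exact (isConj_iff.2 ⟨g₀, rfl⟩).trans (hs _ (hSH _ hg₀S) h1 h2 hg₀).symm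
  intro g hgg hg1
  obtain ⟨P, hP⟩ := (show IsPGroup 2 (Subgroup.zpowers g) from IsPGroup.of_card (n := 1) (by
    rw [Nat.card_zpowers, orderOf_eq_prime (by rw [sq, hgg]) hg1, pow_one])).exists_le_sylow
  obtain ⟨a, ha⟩ := MulAction.exists_smul_eq G P S
  have hgS : a * g * a⁻¹ ∈ S := by
    rw [← ha]
    exact ⟨g, hP (Subgroup.mem_zpowers g), rfl⟩
  have h1 : a * g * a⁻¹ * (a * g * a⁻¹) = 1 := by
    rw [show a * g * a⁻¹ * (a * g * a⁻¹) = a * (g * g) * a⁻¹ by group, hgg]; group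
  have h2 : a * g * a⁻¹ ≠ 1 := fun e => hg1
    (by rw [show g = a⁻¹ * (a * g * a⁻¹) * a by group, e]; group)
  have h3 : IsConj t (a * g * a⁻¹) := by
    by_cases e : a * g * a⁻¹ = t
    · rw [e]
    · exact hconj.trans (hs _ (hSH _ hgS) h1 h2 e)
  exact h3.trans (isConj_iff.2 ⟨a, rfl⟩).symm

/-- Orthogonality of the powers of a primitive root. -/
theorem sum_pow_eq {n : ℕ} {ζ : ℂ} (hζ : IsPrimitiveRoot ζ n) (c : ℕ) :
    ∑ j ∈ Finset.range n, ζ ^ (c * j) = if n ∣ c then (n : ℂ) else 0 := by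
  simp only [pow_mul]
  by_cases h : n ∣ c
  · rw [if_pos h, (hζ.pow_eq_one_iff_dvd c).2 h]
    simp
  · rw [if_neg h]
    have h1 : ζ ^ c ≠ 1 := fun e => h ((hζ.pow_eq_one_iff_dvd c).1 e)
    rw [geom_sum_eq h1, ← pow_mul, mul_comm, pow_mul, hζ.pow_eq_one, one_pow, sub_self, zero_div]

theorem beta_values {η : ℂ} (hη : IsPrimitiveRoot η 6) :
    η ^ 2 = η - 1 ∧ η ^ 3 = -1 ∧ η ^ 4 = -η ∧ η ^ 5 = 1 - η ∧ conj η = 1 - η := by
  have h3 : η ^ 3 = -1 := by
    have h : (η ^ 3) * (η ^ 3) = 1 := by rw [← pow_add]; exact hη.pow_eq_one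
    exact (mul_self_eq_one_iff.1 h).resolve_left (hη.pow_ne_one_of_pos_of_lt (by norm_num) (by norm_num))
  have h2 : η ^ 2 = η - 1 := by
    have h : (η + 1) * (η ^ 2 - η + 1) = 0 := by linear_combination h3
    have hne : η + 1 ≠ 0 := fun e => hη.pow_ne_one_of_pos_of_lt (show (2 : ℕ) ≠ 0 by norm_num)
      (by norm_num) (by rw [eq_neg_of_add_eq_zero_left e]; norm_num)
    linear_combination (mul_eq_zero.1 h).resolve_left hne
  refine ⟨h2, h3, by linear_combination η * h3, by linear_combination η ^ 2 * h3 - h2, ?_⟩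
  have hn : ‖η‖ = 1 := Complex.norm_eq_one_of_pow_eq_one hη.pow_eq_one (by norm_num)
  have h5 : conj η = η⁻¹ := (Complex.inv_eq_conj hn).symm
  rw [h5]
  refine inv_eq_of_mul_eq_one_right ?_
  linear_combination -h2

theorem zeta_values {ζ : ℂ} (hζ : IsPrimitiveRoot ζ 8) :
    ζ ^ 4 = -1 ∧ ζ ^ 5 = -ζ ∧ ζ ^ 6 = -ζ ^ 2 ∧ ζ ^ 7 = -ζ ^ 3 ∧ (∀ k, conj (ζ ^ k) = ζ ^ (7 * k)) := by
  have h4 : ζ ^ 4 = -1 := by
    have h : (ζ ^ 4) * (ζ ^ 4) = 1 := by rw [← pow_add]; exact hζ.pow_eq_one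
    exact (mul_self_eq_one_iff.1 h).resolve_left (hζ.pow_ne_one_of_pos_of_lt (by norm_num) (by norm_num))
  refine ⟨h4, by linear_combination ζ * h4, by linear_combination ζ ^ 2 * h4,
    by linear_combination ζ ^ 3 * h4, fun k => ?_⟩
  have hn : ‖ζ‖ = 1 := Complex.norm_eq_one_of_pow_eq_one hζ.pow_eq_one (by norm_num)
  rw [map_pow, ← Complex.inv_eq_conj hn, pow_mul]
  congr 1
  exact inv_eq_of_mul_eq_one_right (by rw [← pow_succ']; exact hζ.pow_eq_one)

/-- The order from the relations between the coefficients of the five induced functions. -/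
theorem order_of_relations {ι : Type*} [Fintype ι] [DecidableEq ι] {o : ι} {d₁ d₅ d₂ d₄ dB deg : ι → ℤ} {N : ℚ}
    (hN : N ≠ 0) (hdeg0 : deg o = 1) (hdeg : ∀ c, 0 < deg c)
    (hg : ∑ c, d₁ c * d₁ c = 5 ∧ ∑ c, d₅ c * d₅ c = 5 ∧ ∑ c, d₂ c * d₂ c = 3 ∧ ∑ c, d₄ c * d₄ c = 4 ∧
      ∑ c, d₁ c * d₅ c = 4 ∧ ∑ c, d₁ c * d₂ c = 2 ∧ ∑ c, d₁ c * d₄ c = 2 ∧ ∑ c, d₅ c * d₂ c = 2 ∧
      ∑ c, d₅ c * d₄ c = 2 ∧ ∑ c, d₂ c * d₄ c = 2 ∧ ∑ c, d₁ c * dB c = 4 ∧ ∑ c, d₅ c * dB c = 4 ∧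
      ∑ c, d₂ c * dB c = 0 ∧ ∑ c, d₄ c * dB c = 0 ∧ ∑ c, dB c * dB c = 6)
    (ho : d₁ o = 1 ∧ d₅ o = 1 ∧ d₂ o = 1 ∧ d₄ o = 1 ∧ dB o = 0)
    (hsd : ∑ c, d₁ c * deg c = 0 ∧ ∑ c, d₅ c * deg c = 0 ∧ ∑ c, d₂ c * deg c = 0 ∧
      ∑ c, d₄ c * deg c = 0 ∧ ∑ c, dB c * deg c = 0)
    (hc : ∀ c, 8 ∣ deg c + (2 * d₁ c + 2 * d₅ c + 2 * d₂ c + d₄ c))
    (he : N * ∑ c, (d₁ c : ℚ) * (((2 * d₁ c + 2 * d₅ c - 2 * d₂ c - d₄ c : ℤ) : ℚ) ^ 2 / (deg c : ℚ)) = 9216 ∧
      N * ∑ c, (d₅ c : ℚ) * (((2 * d₁ c + 2 * d₅ c - 2 * d₂ c - d₄ c : ℤ) : ℚ) ^ 2 / (deg c : ℚ)) = 9216 ∧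
      N * ∑ c, (d₂ c : ℚ) * (((2 * d₁ c + 2 * d₅ c - 2 * d₂ c - d₄ c : ℤ) : ℚ) ^ 2 / (deg c : ℚ)) = 4608 ∧
      N * ∑ c, (d₄ c : ℚ) * (((2 * d₁ c + 2 * d₅ c - 2 * d₂ c - d₄ c : ℤ) : ℚ) ^ 2 / (deg c : ℚ)) = 0 ∧
      N * ∑ c, (dB c : ℚ) * (((2 * d₁ c + 2 * d₅ c - 2 * d₂ c - d₄ c : ℤ) : ℚ) ^ 2 / (deg c : ℚ)) = 4608)
    (hlin : ∀ c, deg c = 1 → c = o) : N = 5616 ∨ N = 7920 := by
  obtain ⟨g11, g55, g22, g44, g15, g12, g14, g52, g54, g24, g1B, g5B, g2B, g4B, gBB⟩ := hg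
  obtain ⟨o1, o5, o2, o4, oB⟩ := ho
  obtain ⟨s1, s5, s2, s4, sB⟩ := hsd
  obtain ⟨e1, e5, e2, e4, eB⟩ := he
  have hdot : ∀ (x x' : ι → ℤ) (a₁ a₅ a₂ a₄ aB b₁ b₅ b₂ b₄ bB : ℤ),
      (∀ c, x c = a₁ * d₁ c + a₅ * d₅ c + a₂ * d₂ c + a₄ * d₄ c + aB * dB c) →
      (∀ c, x' c = b₁ * d₁ c + b₅ * d₅ c + b₂ * d₂ c + b₄ * d₄ c + bB * dB c) →
      ∑ c, x c * x' c = 5 * a₁ * b₁ + 5 * a₅ * b₅ + 3 * a₂ * b₂ + 4 * a₄ * b₄ + 6 * aB * bB
        + 4 * (a₁ * b₅ + a₅ * b₁) + 2 * (a₁ * b₂ + a₂ * b₁) + 2 * (a₁ * b₄ + a₄ * b₁)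
        + 2 * (a₅ * b₂ + a₂ * b₅) + 2 * (a₅ * b₄ + a₄ * b₅) + 2 * (a₂ * b₄ + a₄ * b₂)
        + 4 * (a₁ * bB + aB * b₁) + 4 * (a₅ * bB + aB * b₅) := by
    intro x x' a₁ a₅ a₂ a₄ aB b₁ b₅ b₂ b₄ bB hx hx'
    calc ∑ c, x c * x' c = ∑ c, (a₁ * b₁ * (d₁ c * d₁ c) + a₅ * b₅ * (d₅ c * d₅ c) + a₂ * b₂ * (d₂ c * d₂ c)
          + a₄ * b₄ * (d₄ c * d₄ c) + aB * bB * (dB c * dB c) + (a₁ * b₅ + a₅ * b₁) * (d₁ c * d₅ c)
          + (a₁ * b₂ + a₂ * b₁) * (d₁ c * d₂ c) + (a₁ * b₄ + a₄ * b₁) * (d₁ c * d₄ c)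
          + (a₅ * b₂ + a₂ * b₅) * (d₅ c * d₂ c) + (a₅ * b₄ + a₄ * b₅) * (d₅ c * d₄ c)
          + (a₂ * b₄ + a₄ * b₂) * (d₂ c * d₄ c) + (a₁ * bB + aB * b₁) * (d₁ c * dB c)
          + (a₅ * bB + aB * b₅) * (d₅ c * dB c) + (a₂ * bB + aB * b₂) * (d₂ c * dB c)
          + (a₄ * bB + aB * b₄) * (d₄ c * dB c)) :=
          Finset.sum_congr rfl fun c _ => by rw [hx, hx']; ring
      _ = _ := by
        simp only [Finset.sum_add_distrib, ← Finset.mul_sum, g11, g55, g22, g44, g15, g12, g14, g52,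
          g54, g24, g1B, g5B, g2B, g4B, gBB]
        ring
  obtain ⟨va, hva⟩ : ∃ va : ι → ℤ, va = fun c => d₂ c + dB c - d₅ c := ⟨_, rfl⟩
  obtain ⟨vb, hvb⟩ : ∃ vb : ι → ℤ, vb = fun c => d₅ c - d₁ c := ⟨_, rfl⟩
  obtain ⟨ve, hve⟩ : ∃ ve : ι → ℤ, ve = fun c => d₁ c + d₅ c - d₂ c - dB c := ⟨_, rfl⟩
  obtain ⟨vf, hvf⟩ : ∃ vf : ι → ℤ, vf = fun c => d₁ c + d₅ c - d₂ c - dB c - d₄ c := ⟨_, rfl⟩
  have xa : ∀ c, va c = 0 * d₁ c + (-1) * d₅ c + 1 * d₂ c + 0 * d₄ c + 1 * dB c := fun c => by rw [hva]; ring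
  have xb : ∀ c, vb c = (-1) * d₁ c + 1 * d₅ c + 0 * d₂ c + 0 * d₄ c + 0 * dB c := fun c => by rw [hvb]; ring
  have xe : ∀ c, ve c = 1 * d₁ c + 1 * d₅ c + (-1) * d₂ c + 0 * d₄ c + (-1) * dB c := fun c => by rw [hve]; ring
  have xf : ∀ c, vf c = 1 * d₁ c + 1 * d₅ c + (-1) * d₂ c + (-1) * d₄ c + (-1) * dB c := fun c => by rw [hvf]; ring
  have xg : ∀ c, d₂ c = 0 * d₁ c + 0 * d₅ c + 1 * d₂ c + 0 * d₄ c + 0 * dB c := fun c => by ring
  obtain ⟨p, s, u, v, w, σp, σs, σu, σv, σw, ⟨up, us, uu, uv, uw⟩, ⟨npo, nso, nuo, nvo, nwo⟩,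
    ⟨ap, bp, gp, ep, fp⟩, ⟨as_, bs, gs_, es, fs⟩, ⟨au, bu, gu, eu, fu⟩, ⟨av, bv, gv, ev, fv⟩,
    ⟨aw, bw, gw, ew, fw⟩, dg, de, df⟩ :=
    shape (o := o) (deg := deg) (a := va) (b := vb) (e := ve) (f := vf) (g := d₂) hdeg0 hdeg
      (hdot _ _ _ _ _ _ _ _ _ _ _ _ xa xa) (hdot _ _ _ _ _ _ _ _ _ _ _ _ xb xb)
      (hdot _ _ _ _ _ _ _ _ _ _ _ _ xe xe) (hdot _ _ _ _ _ _ _ _ _ _ _ _ xf xf) g22
      (hdot _ _ _ _ _ _ _ _ _ _ _ _ xa xb) (hdot _ _ _ _ _ _ _ _ _ _ _ _ xa xe)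
      (hdot _ _ _ _ _ _ _ _ _ _ _ _ xa xf) (hdot _ _ _ _ _ _ _ _ _ _ _ _ xa xg)
      (hdot _ _ _ _ _ _ _ _ _ _ _ _ xb xe) (hdot _ _ _ _ _ _ _ _ _ _ _ _ xb xf)
      (hdot _ _ _ _ _ _ _ _ _ _ _ _ xb xg) (hdot _ _ _ _ _ _ _ _ _ _ _ _ xe xg)
      (hdot _ _ _ _ _ _ _ _ _ _ _ _ xe xf) (hdot _ _ _ _ _ _ _ _ _ _ _ _ xf xg)
      (by rw [hva]; simp [o2, oB, o5]) (by rw [hvb]; simp [o5, o1]) (by rw [hve]; simp [o1, o5, o2, oB])
      (by rw [hvf]; simp [o1, o5, o2, oB, o4]) o2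
      (by simp only [hva, sub_mul, add_mul, Finset.sum_add_distrib, Finset.sum_sub_distrib, s2, s5, sB]; ring)
      (by simp only [hvb, sub_mul, Finset.sum_sub_distrib, s1, s5]; ring)
      (by simp only [hvf, sub_mul, add_mul, Finset.sum_add_distrib, Finset.sum_sub_distrib, s1, s2, s4, s5, sB]; ring)
      s2
  subst hva hvb hve hvf
  beta_reduce at ap bp ep fp as_ bs es fs au bu eu fu av bv ev fv aw bw ew fw de df
  obtain ⟨T, hT⟩ : ∃ T : ι → ℤ, T = fun c => 2 * d₁ c + 2 * d₅ c - 2 * d₂ c - d₄ c := ⟨_, rfl⟩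
  have Tp : T p = 2 * σp := by simp only [hT]; omega
  have Ts : T s = -3 * σs := by simp only [hT]; omega
  have Tu : T u = 4 * σu := by simp only [hT]; omega
  have Tv : T v = 3 * σv := by simp only [hT]; omega
  have Tw : T w = σw := by simp only [hT]; omega
  obtain ⟨x, hx⟩ : ∃ x : ι → ℚ,
      x = fun c => ((2 * d₁ c + 2 * d₅ c - 2 * d₂ c - d₄ c : ℤ) : ℚ) ^ 2 / (deg c : ℚ) := ⟨_, rfl⟩
  have hconv : ∀ (σ : ℤ) (c : ι) (k : ℤ), σ * σ = 1 → T c * T c = k →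
      (σ : ℚ) * x c = (k : ℚ) / ((σ * deg c : ℤ) : ℚ) := by
    intro σ c k hσ hk
    subst hk hx hT
    rcases unit_cases hσ with rfl | rfl <;> push_cast <;> ring
  have hxo : x o = 1 := by subst hx; simp [o1, o5, o2, o4, hdeg0]
  have hxs : ∀ c, ((2 * d₁ c + 2 * d₅ c - 2 * d₂ c - d₄ c : ℤ) : ℚ) ^ 2 / (deg c : ℚ) = x c := by
    subst hx; exact fun c => rfl
  simp only [hxs] at e1 e5 e2 e4 eB
  have Eg := dg x
  have Ee := de x
  have Ef := df x
  simp only [Int.cast_add, Int.cast_sub, sub_mul, add_mul, Finset.sum_add_distrib, Finset.sum_sub_distrib] at Ee Ef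
  rw [hxo, hconv σp p 4 up (by rw [Tp]; linear_combination 4 * up),
    hconv σs s 9 us (by rw [Ts]; linear_combination 9 * us)] at Eg
  rw [hxo, hconv σu u 16 uu (by rw [Tu]; linear_combination 16 * uu),
    hconv σv v 9 uv (by rw [Tv]; linear_combination 9 * uv)] at Ee
  rw [hconv σu u 16 uu (by rw [Tu]; linear_combination 16 * uu),
    hconv σw w 1 uw (by rw [Tw]; exact uw), neg_mul,
    hconv σs s 9 us (by rw [Ts]; linear_combination 9 * us)] at Ef
  have Dg' : 1 + σp * deg p + σs * deg s = 0 := by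
    have h := dg fun c => (deg c : ℚ)
    simp only [← Int.cast_mul, ← Int.cast_add, ← Int.cast_sum, Int.cast_inj, s2, hdeg0] at h
    linarith
  have De' : 1 + σu * deg u + σv * deg v = 0 := by
    have h := de fun c => (deg c : ℚ)
    simp only [← Int.cast_mul, ← Int.cast_add, ← Int.cast_sum, Int.cast_inj, hdeg0] at h
    simp only [sub_mul, add_mul, Finset.sum_add_distrib, Finset.sum_sub_distrib, s1, s2, s5, sB] at h
    linarith
  have Df' : -(σs * deg s) + σu * deg u + σw * deg w = 0 := by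
    have h := df fun c => (deg c : ℚ)
    simp only [← Int.cast_neg, ← Int.cast_mul, ← Int.cast_add, ← Int.cast_sum, Int.cast_inj] at h
    simp only [neg_mul, sub_mul, add_mul, Finset.sum_add_distrib, Finset.sum_sub_distrib, s1, s2, s4, s5, sB] at h
    linarith
  have hne : ∀ (σ : ℤ) (c : ι), σ * σ = 1 → σ * deg c ≠ 0 := fun σ c hσ =>
    mul_ne_zero (fun h => by simp [h] at hσ) (hdeg c).ne'
  have h8 : ∀ (σ : ℤ) (c : ι) (k : ℤ), σ * σ = 1 →
      2 * d₁ c + 2 * d₅ c + 2 * d₂ c + d₄ c = σ * k → 8 ∣ σ * deg c + k := by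
    intro σ c k hσ hk
    have h := (hc c).mul_left σ
    rw [hk] at h
    have e : σ * (deg c + σ * k) = σ * deg c + k := by linear_combination k * hσ
    rwa [e] at h
  have hW1 : σw * deg w ≠ 1 := fun h => nwo (hlin w (by
    have := hdeg w
    rcases unit_cases uw with e | e <;> rw [e] at h <;> omega))
  refine order_arith (r := σu * deg u) (p := σp * deg p) (V := σv * deg v) (S := -(σs * deg s))
    (W := σw * deg w) hN (hne _ _ uu) (hne _ _ up) (hne _ _ uv) (neg_ne_zero.2 (hne _ _ us))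
    (hne _ _ uw) hW1 (h8 _ u _ uu (by omega)) (h8 _ p _ up (by omega)) De' (by omega) (by linarith) ?_ ?_ ?_
  · push_cast at Ee ⊢; linear_combination e1 + e5 - e2 - eB - N * Ee
  · push_cast at Ef ⊢; linear_combination e1 + e5 - e2 - eB - e4 - N * Ef
  · push_cast at Eg ⊢; linear_combination e2 - N * Eg

set_option maxHeartbeats 1000000 in
theorem card_eq [IsSimpleGroup G] {t : G} (ht : orderOf t = 2)
    (e₀ : Subgroup.centralizer ({t} : Set G) ≃* Matrix.GeneralLinearGroup (Fin 2) (ZMod 3)) :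
    Nat.card G = 5616 ∨ Nat.card G = 7920 := by
  classical
  have : Fintype (IrrCharacter G) := Fintype.ofFinite _
  obtain ⟨y, z, hL⟩ := exists_local ht e₀
  have hall := all_conj ht hL
  obtain ⟨ζ, hζ⟩ : ∃ ζ : ℂ, IsPrimitiveRoot ζ 8 := ⟨_, Complex.isPrimitiveRoot_exp 8 (by norm_num)⟩
  obtain ⟨η, hη⟩ : ∃ η : ℂ, IsPrimitiveRoot η 6 := ⟨_, Complex.isPrimitiveRoot_exp 6 (by norm_num)⟩
  obtain ⟨h4, h5, h6, h7, hζc⟩ := zeta_values hζ
  obtain ⟨k2, k3, k4, k5, hηc⟩ := beta_values hη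
  obtain ⟨l, hl⟩ := exists_hom hL.order_y hζ.pow_eq_one
  obtain ⟨ν, hν⟩ := exists_hom hL.order_z hη.pow_eq_one
  have hphi : ∀ a m : ℕ, phi l a ((⟨y, Subgroup.mem_zpowers y⟩ : Subgroup.zpowers y) ^ m) = 1 - ζ ^ (a * m % 8) := fun a m => by
    simp only [phi, Pi.sub_apply, BSW.lin, MonoidHom.one_apply, Units.val_one, MonoidHom.pow_apply,
      Units.val_pow_eq_pow_val]
    rw [hl m, ← pow_mul, mul_comm m a]
    conv_rhs => rw [hζ.eq_orderOf, pow_mod_orderOf]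
  have hbeta : ∀ m : ℕ, beta ν ((⟨z, Subgroup.mem_zpowers z⟩ : Subgroup.zpowers z) ^ m) = η ^ (2 * m % 6) - η ^ (5 * m % 6) := fun m => by
    simp only [beta, Pi.sub_apply, BSW.lin, MonoidHom.pow_apply, Units.val_pow_eq_pow_val]
    rw [hν m, ← pow_mul, ← pow_mul, mul_comm m 2, mul_comm m 5]
    conv_rhs => rw [hη.eq_orderOf, pow_mod_orderOf, pow_mod_orderOf]
  set F : ℕ → G → ℂ := fun a => indFun (Subgroup.zpowers y) (phi l a) with hF
  set B : G → ℂ := indFun (Subgroup.zpowers z) (beta ν) with hB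
  have hFc : ∀ a, IsClassFunction G (F a) := fun a => Char.indFun_isClassFunction _ _
  have hBc : IsClassFunction G B := Char.indFun_isClassFunction _ _
  have hy4 : ∀ m, m < 8 → m ≠ 0 → ∃ i, (y ^ m) ^ i = t := by
    intro m hm hm0
    refine ⟨if m = 4 then 1 else if m % 2 = 0 then 2 else 4, ?_⟩
    rw [← pow_mul, ← pow_mod_orderOf, hL.order_y]
    rw [← hL.y_four]
    interval_cases m <;> first | (exact absurd rfl hm0) | norm_num
  have hz3 : ∀ m, m < 6 → m % 2 = 1 → (z ^ m) ^ 3 = t := by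
    intro m hm hm0
    rw [← pow_mul, ← pow_mod_orderOf, hL.order_z, ← hL.z_three]
    congr 1
    omega
  -- the values on the `t`-section
  have hFy : ∀ a j, j < 8 → j ≠ 0 → F a (y ^ j) =
      phi l a ((⟨y, Subgroup.mem_zpowers y⟩ : Subgroup.zpowers y) ^ j) + phi l a ((⟨y, Subgroup.mem_zpowers y⟩ : Subgroup.zpowers y) ^ (3 * j % 8)) + (if j = 4 then 4 * phi l a ((⟨y, Subgroup.mem_zpowers y⟩ : Subgroup.zpowers y) ^ 4) else 0) := by
    intro a j hj hj0
    obtain ⟨i, hi⟩ := hy4 j hj hj0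
    simp only [hF]
    rw [indFun_pow ht hL.order_y hL.y_four (by norm_num) _ hi,
      Finset.sum_congr rfl fun m hm => by rw [hL.cntYY j hj hj0 m (Finset.mem_range.1 hm)]]
    have h3j : 3 * j % 8 < 8 := Nat.mod_lt _ (by norm_num)
    simp only [Nat.cast_add, Nat.cast_mul, Nat.cast_ofNat, Nat.cast_ite, Nat.cast_one, Nat.cast_zero,
      add_mul, mul_add, mul_ite, ite_mul, mul_one, mul_zero, zero_mul, Finset.sum_add_distrib]
    by_cases h : j = 4
    · subst h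
      simp [Finset.sum_ite_eq']
      ring
    · simp [Finset.sum_ite_eq', h, hj, h3j]
  have hBy : ∀ j, j < 8 → j ≠ 0 → B (y ^ j) = if j = 4 then 16 else 0 := by
    intro j hj hj0
    obtain ⟨i, hi⟩ := hy4 j hj hj0
    simp only [hB]
    rw [indFun_pow ht hL.order_z hL.z_three (by norm_num) _ hi,
      Finset.sum_congr rfl fun m hm => by rw [hL.cntYZ j hj hj0 m (Finset.mem_range.1 hm)]]
    by_cases h : j = 4
    · simp only [Finset.sum_range_succ, Finset.sum_range_zero, h, hbeta]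
      norm_num [k3]
    · simp [h]
  have hBz : ∀ j, j < 6 → j % 2 = 1 → B (z ^ j) =
      beta ν ((⟨z, Subgroup.mem_zpowers z⟩ : Subgroup.zpowers z) ^ j) + beta ν ((⟨z, Subgroup.mem_zpowers z⟩ : Subgroup.zpowers z) ^ (5 * j % 6)) + (if j = 3 then 12 else 0) := by
    intro j hj hj0
    simp only [hB]
    rw [indFun_pow ht hL.order_z hL.z_three (by norm_num) _ (hz3 j hj hj0),
      Finset.sum_congr rfl fun m hm => by rw [hL.cntZZ j hj (by omega) m (Finset.mem_range.1 hm)]]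
    interval_cases j <;> first
      | (norm_num at hj0; done)
      | (simp only [Finset.sum_range_succ, Finset.sum_range_zero, hbeta]
         norm_num [k2, k3, k4, k5]
         try ring)
  -- the inner products
  have gFF : ∀ a b : ℕ, ¬ 8 ∣ a → ¬ 8 ∣ b → classInner (F a) (F b) =
      2 + (if 8 ∣ a + 7 * b then 1 else 0) + (if 8 ∣ a + 21 * b then 1 else 0)
        + (1 - (-1) ^ a) * (1 - (-1) ^ b) / 2 := by
    intro a b ha hb
    rw [hF]
    simp only
    rw [classInner_indFun hL.order_y _ (hFc b)]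
    have e : ∀ m ∈ Finset.range 8, phi l a ((⟨y, Subgroup.mem_zpowers y⟩ : Subgroup.zpowers y) ^ m) * conj (F b (y ^ m)) =
        (1 - ζ ^ (a * m)) * (1 - ζ ^ (7 * b * m)) + (1 - ζ ^ (a * m)) * (1 - ζ ^ (21 * b * m))
          + if m = 4 then 4 * (1 - (-1) ^ a) * (1 - (-1) ^ b) else 0 := by
      intro m hm
      have hp : ∀ k : ℕ, ζ ^ (k % 8) = ζ ^ k := fun k => by
        conv_lhs => rw [hζ.eq_orderOf, pow_mod_orderOf]
      rw [hphi, hp]
      by_cases hm0 : m = 0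
      · simp [hm0]
      rw [hFy b m (Finset.mem_range.1 hm) hm0, hphi, hphi, hphi, hp, hp, hp]
      have h4' : ∀ c : ℕ, ζ ^ (c * 4) = (-1) ^ c := fun c => by rw [mul_comm, pow_mul, h4]
      have e3 : ζ ^ (b * (3 * m % 8)) = ζ ^ (3 * b * m) := by
        rw [mul_comm, pow_mul, hp, ← pow_mul]; ring_nf
      rw [e3]
      split_ifs with h
      · subst h
        simp only [map_add, map_sub, map_mul, map_one, map_ofNat, hζc, h4', map_pow, map_neg]
        simp only [pow_mul]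
        norm_num
        ring
      · simp only [map_add, map_sub, map_one, hζc, map_zero, add_zero]
        ring_nf
    rw [Finset.sum_congr rfl e]
    simp only [Finset.sum_add_distrib, mul_sub, sub_mul, one_mul, mul_one, Finset.sum_sub_distrib,
      ← pow_add, ← add_mul, sum_pow_eq hζ, Finset.sum_ite_eq', Finset.mem_range, Finset.sum_const,
      Finset.card_range, nsmul_eq_mul]
    have c1 : ¬ 8 ∣ 7 * b := fun h => hb ((Nat.Coprime.dvd_mul_left (by norm_num)).1 h)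
    have c2 : ¬ 8 ∣ 21 * b := fun h => hb ((Nat.Coprime.dvd_mul_left (by norm_num)).1 h)
    simp only [ha, c1, c2, if_false]
    split_ifs <;> norm_num at * <;> ring
  have gFB : ∀ a : ℕ, classInner (F a) B = 2 * (1 - (-1) ^ a) := by
    intro a
    simp only [hF]
    rw [classInner_indFun hL.order_y _ hBc]
    simp only [Finset.sum_range_succ, Finset.sum_range_zero]
    rw [hBy 1 (by norm_num) (by norm_num), hBy 2 (by norm_num) (by norm_num), hBy 3 (by norm_num) (by norm_num),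
      hBy 4 (by norm_num) (by norm_num), hBy 5 (by norm_num) (by norm_num), hBy 6 (by norm_num) (by norm_num),
      hBy 7 (by norm_num) (by norm_num), hphi a 0, hphi a 4]
    have : ζ ^ (a * 4 % 8) = (-1) ^ a := by
      rw [hζ.eq_orderOf, pow_mod_orderOf, mul_comm, pow_mul, h4]
    rw [this]
    norm_num [map_ofNat]
    ring
  have gBB : classInner B B = 6 := by
    simp only [hB]
    rw [classInner_indFun hL.order_z _ hBc]
    simp only [Finset.sum_range_succ, Finset.sum_range_zero]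
    rw [hBz 1 (by norm_num) (by norm_num), hBz 3 (by norm_num) (by norm_num), hBz 5 (by norm_num) (by norm_num)]
    simp only [hbeta]
    norm_num [k2, k3, k4, k5, map_ofNat, hηc]
    linear_combination (norm := ring_nf) (0 : ℂ) * k2
  have gF1 : ∀ a : ℕ, ¬ 8 ∣ a → classInner (F a) (1 : G → ℂ) = 1 := by
    intro a ha
    simp only [hF]
    rw [classInner_indFun hL.order_y _ (Char.IsIrrCharacter.isClassFunction Char.isIrrCharacter_one)]
    have hp : ∀ k : ℕ, ζ ^ (k % 8) = ζ ^ k := fun k => by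
      conv_lhs => rw [hζ.eq_orderOf, pow_mod_orderOf]
    rw [Finset.sum_congr rfl fun m _ => show _ = 1 - ζ ^ (a * m) by
      rw [hphi, hp, Pi.one_apply, map_one, mul_one]]
    rw [Finset.sum_sub_distrib, sum_pow_eq hζ, if_neg ha]
    norm_num
  have gB1 : classInner B (1 : G → ℂ) = 0 := by
    simp only [hB]
    rw [classInner_indFun hL.order_z _ (Char.IsIrrCharacter.isClassFunction Char.isIrrCharacter_one)]
    simp only [Finset.sum_range_succ, Finset.sum_range_zero, hbeta]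
    norm_num [k2, k3, k4, k5]
    ring
  -- the integral coefficients
  have hres : ∀ (χ : IrrCharacter G) (w : G) (q : Subgroup.zpowers w →* ℂˣ),
      ∃ k : ℕ, classInner (BSW.lin q) (fun x : Subgroup.zpowers w => (χ : G → ℂ) x) = k := fun χ w q =>
    Char.IsCharacter.classInner_nat (Char.IsIrrCharacter.isCharacter (BSW.isIrr_lin q))
      (Char.IsCharacter.restrict (Char.IsIrrCharacter.isCharacter χ.2) _)
  have hint : ∀ (a : ℕ) (χ : IrrCharacter G), ∃ k : ℤ, classInner (F a) (χ : G → ℂ) = k := by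
    intro a χ
    obtain ⟨k₁, e₁⟩ := hres χ y 1
    obtain ⟨k₂, e₂⟩ := hres χ y (l ^ a)
    refine ⟨(k₁ : ℤ) - k₂, ?_⟩
    simp only [hF]
    rw [Char.frobenius_reciprocity _ _ (Char.IsIrrCharacter.isClassFunction χ.2), phi,
      Char.classInner_sub_left, e₁, e₂]
    push_cast; rfl
  have hintB : ∀ χ : IrrCharacter G, ∃ k : ℤ, classInner B (χ : G → ℂ) = k := by
    intro χ
    obtain ⟨k₁, e₁⟩ := hres χ z (ν ^ 2)
    obtain ⟨k₂, e₂⟩ := hres χ z (ν ^ 5)
    refine ⟨(k₁ : ℤ) - k₂, ?_⟩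
    simp only [hB]
    rw [Char.frobenius_reciprocity _ _ (Char.IsIrrCharacter.isClassFunction χ.2), beta,
      Char.classInner_sub_left, e₁, e₂]
    push_cast; rfl
  choose d hd using hint
  choose dB hdB using hintB
  choose deg hdeg0 hdeg using fun χ : IrrCharacter G => Char.IsIrrCharacter.exists_degree χ.2
  -- values at `t` and congruences
  obtain ⟨r, hr⟩ : ∃ r : G, y * r = r * y ^ 3 := by
    have h8 := hL.cntYY 1 (by norm_num) one_ne_zero 3 (by norm_num)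
    norm_num at h8
    rw [cnt] at h8
    obtain ⟨g⟩ := (Nat.card_pos_iff.1 (by omega : 0 < Nat.card
      {g : Subgroup.centralizer ({t} : Set G) // y ^ 1 * (g : G) = (g : G) * y ^ 3})).1
    exact ⟨g.1, by simpa using g.2⟩
  have hchar : ∀ χ : IrrCharacter G, (8 : ℤ) ∣ (deg χ : ℤ) + (2 * d 1 χ + 2 * d 5 χ + 2 * d 2 χ + d 4 χ) ∧
      (χ : G → ℂ) t = ((2 * d 1 χ + 2 * d 5 χ - 2 * d 2 χ - d 4 χ : ℤ) : ℂ) := by
    intro χ
    obtain ⟨m0, hm0⟩ := hres χ y 1
    set c : ℕ → ℂ := fun j => conj ((χ : G → ℂ) (y ^ j)) with hc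
    have hcl : ∀ j, (χ : G → ℂ) (y ^ (3 * j)) = (χ : G → ℂ) (y ^ j) := by
      intro j
      have e : y ^ (3 * j) = r⁻¹ * y ^ j * r := by
        have h3 : y ^ 3 = r⁻¹ * y * r := by rw [mul_assoc, hr, inv_mul_cancel_left]
        rw [pow_mul, h3]
        simpa using conj_pow (a := r⁻¹) (b := y) (i := j)
      rw [e]
      simpa using Char.IsIrrCharacter.isClassFunction χ.2 (y ^ j) r⁻¹
    have hmod : ∀ j : ℕ, (χ : G → ℂ) (y ^ j) = (χ : G → ℂ) (y ^ (j % 8)) := fun j => by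
      rw [← hL.order_y, pow_mod_orderOf]
    have c3 : c 3 = c 1 := by simp only [hc]; rw [← hcl 1]
    have c6 : c 6 = c 2 := by simp only [hc]; rw [← hcl 2]
    have c7 : c 7 = c 5 := by
      simp only [hc]
      rw [← hcl 5, hmod (3 * 5)]
    have c0 : c 0 = (deg χ : ℂ) := by simp only [hc, pow_zero, hdeg χ, map_natCast]
    have hd' : ∀ a : ℕ, (d a χ : ℂ) =
        (8 : ℂ)⁻¹ * ∑ j ∈ Finset.range 8, (1 - ζ ^ (a * j % 8)) * c j := by
      intro a
      rw [← hd a χ]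
      simp only [hF]
      rw [classInner_indFun hL.order_y _ (Char.IsIrrCharacter.isClassFunction χ.2)]
      rw [Finset.sum_congr rfl fun j _ => by rw [hphi]]
      norm_num [hc]
    have hm0' : (m0 : ℂ) = (8 : ℂ)⁻¹ * ∑ j ∈ Finset.range 8, c j := by
      rw [← hm0, classInner, Nat.card_zpowers, hL.order_y, sum_zpowers hL.order_y]
      simp [BSW.lin_one, hc]
    constructor
    · refine ⟨m0, ?_⟩
      have h : ((((deg χ : ℤ) + (2 * d 1 χ + 2 * d 5 χ + 2 * d 2 χ + d 4 χ) : ℤ)) : ℂ) = ((8 * (m0 : ℤ) : ℤ) : ℂ) := by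
        push_cast
        rw [hd', hd', hd', hd', hm0', ← c0]
        simp only [Finset.sum_range_succ, Finset.sum_range_zero]
        norm_num [c3, c6, c7, h4, h5, h6, h7]
        ring
      exact_mod_cast h
    · have h : c 4 = ((2 * d 1 χ + 2 * d 5 χ - 2 * d 2 χ - d 4 χ : ℤ) : ℂ) := by
        push_cast
        rw [hd', hd', hd', hd']
        simp only [Finset.sum_range_succ, Finset.sum_range_zero]
        norm_num [c3, c6, c7, h4, h5, h6, h7]
        ring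
      have h' := congrArg conj h
      simp only [hc, Complex.conj_conj, map_intCast, hL.y_four] at h'
      exact h'
  set T : IrrCharacter G → ℤ := fun χ => 2 * d 1 χ + 2 * d 5 χ - 2 * d 2 χ - d 4 χ with hT
  -- the class multiplication equations
  have csF : ∀ a : ℕ, (Nat.card G : ℂ) * ∑ χ : IrrCharacter G, (d a χ : ℂ) * (T χ : ℂ) ^ 2 / (deg χ : ℂ) =
      2304 * ((8 : ℂ)⁻¹ * (4 * (1 - ζ ^ (a * 2 % 8)) + 12 * (1 - ζ ^ (a * 4 % 8)) + 4 * (1 - ζ ^ (a * 6 % 8)))) := by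
    intro a
    have h := class_sum ht hall hL.order_y (phi l a) (fun m hm => by
      rcases eq_or_ne m 0 with rfl | hm0
      · left; simp [phi, BSW.lin]
      · exact Or.inr (hy4 m (Finset.mem_range.1 hm) hm0)) hL.card_cent
    rw [Finset.sum_congr rfl fun χ _ => show _ = (d a χ : ℂ) * (T χ : ℂ) ^ 2 / (deg χ : ℂ) by
      rw [← hd a χ, (hchar χ).2, hdeg χ]] at h
    rw [h]
    simp only [Finset.sum_range_succ, Finset.sum_range_zero, hphi]
    rw [hL.invY 1 (by norm_num) (by norm_num), hL.invY 2 (by norm_num) (by norm_num),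
      hL.invY 3 (by norm_num) (by norm_num), hL.invY 4 (by norm_num) (by norm_num),
      hL.invY 5 (by norm_num) (by norm_num), hL.invY 6 (by norm_num) (by norm_num),
      hL.invY 7 (by norm_num) (by norm_num)]
    norm_num
    try ring
  have csB : (Nat.card G : ℂ) * ∑ χ : IrrCharacter G, (dB χ : ℂ) * (T χ : ℂ) ^ 2 / (deg χ : ℂ) = 2304 * 2 := by
    have h := class_sum ht hall hL.order_z (beta ν) (fun m hm => by
      rcases Nat.mod_two_eq_zero_or_one m with hm2 | hm2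
      · left
        have hm6 := Finset.mem_range.1 hm
        rw [hbeta]
        interval_cases m <;> first
          | (norm_num at hm2; done)
          | norm_num [k2, k3, k4, k5]
      · exact Or.inr ⟨3, hz3 m (Finset.mem_range.1 hm) hm2⟩) hL.card_cent
    rw [Finset.sum_congr rfl fun χ _ => show _ = (dB χ : ℂ) * (T χ : ℂ) ^ 2 / (deg χ : ℂ) by
      rw [← hdB χ, (hchar χ).2, hdeg χ]] at h
    rw [h]
    simp only [Finset.sum_range_succ, Finset.sum_range_zero, hbeta]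
    rw [hL.invZ 1 (by norm_num) (by norm_num), hL.invZ 2 (by norm_num) (by norm_num),
      hL.invZ 3 (by norm_num) (by norm_num), hL.invZ 4 (by norm_num) (by norm_num),
      hL.invZ 5 (by norm_num) (by norm_num)]
    norm_num [k2, k3, k4, k5]
    try ring
  -- the Gram matrix
  have gram : ∀ (X Y : G → ℂ) (x x' : IrrCharacter G → ℤ), IsClassFunction G X →
      (∀ χ : IrrCharacter G, classInner X (χ : G → ℂ) = x χ) →
      (∀ χ : IrrCharacter G, classInner Y (χ : G → ℂ) = x' χ) →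
      ((∑ χ, x χ * x' χ : ℤ) : ℂ) = classInner X Y := by
    intro X Y x x' hX hx hx'
    rw [Char.classInner_eq_sum hX Y]
    simp [hx, hx']
  have q : ∀ a b : ℕ, ((∑ χ, d a χ * d b χ : ℤ) : ℂ) = classInner (F a) (F b) := fun a b =>
    gram _ _ _ _ (hFc a) (hd a) (hd b)
  have qB : ∀ a : ℕ, ((∑ χ, d a χ * dB χ : ℤ) : ℂ) = classInner (F a) B := fun a =>
    gram _ _ _ _ (hFc a) (hd a) hdB
  have qi : ∀ a b : ℕ, ∀ k : ℤ, ¬ 8 ∣ a → ¬ 8 ∣ b →
      ((2 : ℂ) + (if 8 ∣ a + 7 * b then 1 else 0) + (if 8 ∣ a + 21 * b then 1 else 0)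
        + (1 - (-1) ^ a) * (1 - (-1) ^ b) / 2 = k) → ∑ χ, d a χ * d b χ = k := fun a b k ha hb hk => by
    have h := (q a b).trans ((gFF a b ha hb).trans hk)
    exact_mod_cast h
  have qiB : ∀ a : ℕ, ∀ k : ℤ, (2 : ℂ) * (1 - (-1) ^ a) = k → ∑ χ, d a χ * dB χ = k := fun a k hk => by
    have h := (qB a).trans ((gFB a).trans hk)
    exact_mod_cast h
  have gBBi : ∑ χ, dB χ * dB χ = 6 := by exact_mod_cast (gram _ _ _ _ hBc hdB hdB).trans gBB
  let o : IrrCharacter G := ⟨1, Char.isIrrCharacter_one⟩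
  have ho : ∀ a, ¬ 8 ∣ a → d a o = 1 := fun a ha => by exact_mod_cast (hd a o).symm.trans (gF1 a ha)
  have hoB : dB o = 0 := by exact_mod_cast (hdB o).symm.trans gB1
  have hdegsum : ∀ (X : G → ℂ) (x : IrrCharacter G → ℤ), IsClassFunction G X → X 1 = 0 →
      (∀ χ : IrrCharacter G, classInner X (χ : G → ℂ) = x χ) → ∑ χ, x χ * (deg χ : ℤ) = 0 := by
    intro X x hX h1 hx
    have h := congrFun (Char.classFunction_eq_sum hX) 1
    rw [h1, Finset.sum_apply] at h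
    have h' : ((∑ χ, x χ * (deg χ : ℤ) : ℤ) : ℂ) = ((0 : ℤ) : ℂ) := by
      push_cast
      rw [h]
      exact Finset.sum_congr rfl fun χ _ => by rw [Pi.smul_apply, smul_eq_mul, hx, hdeg]
    exact_mod_cast h'
  have hF1 : ∀ a, F a 1 = 0 := fun a => by
    simp only [hF, Char.indFun_one_apply]
    simp [phi, BSW.lin]
  have hB1 : B 1 = 0 := by simp [hB, Char.indFun_one_apply, beta, BSW.lin]
  have sdeg : ∀ a, ∑ χ, d a χ * (deg χ : ℤ) = 0 := fun a => hdegsum _ _ (hFc a) (hF1 a) (hd a)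
  have sdegB : ∑ χ, dB χ * (deg χ : ℤ) = 0 := hdegsum _ _ hBc hB1 hdB
  have hdo : deg o = 1 := by
    exact_mod_cast ((hdeg o).symm.trans (show ((o : IrrCharacter G) : G → ℂ) 1 = 1 from rfl))
  -- the equations over the rationals
  set x : IrrCharacter G → ℚ := fun χ =>
    ((2 * d 1 χ + 2 * d 5 χ - 2 * d 2 χ - d 4 χ : ℤ) : ℚ) ^ 2 / (deg χ : ℚ) with hx
  have toQ : ∀ (c : IrrCharacter G → ℤ) (k : ℚ),
      (Nat.card G : ℂ) * ∑ χ : IrrCharacter G, (c χ : ℂ) * (T χ : ℂ) ^ 2 / (deg χ : ℂ) = (k : ℂ) →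
      (Nat.card G : ℚ) * ∑ χ, (c χ : ℚ) * x χ = k := by
    intro c k h
    have h' : (((Nat.card G : ℚ) * ∑ χ, (c χ : ℚ) * x χ : ℚ) : ℂ) = (k : ℂ) := by
      push_cast [hx]
      rw [← h]
      simp only [hT, mul_div_assoc]
      push_cast
      rfl
    exact_mod_cast h'
  have e1 := toQ (d 1) 9216 ((csF 1).trans (by norm_num [h4, h6]; ring))
  have e5 := toQ (d 5) 9216 ((csF 5).trans (by norm_num [h4, h6]; ring))
  have e2 := toQ (d 2) 4608 ((csF 2).trans (by norm_num [h4, h6]))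
  have e4 := toQ (d 4) 0 ((csF 4).trans (by norm_num [h4, h6]))
  have eB := toQ dB 4608 (csB.trans (by norm_num))
  have key := order_of_relations (o := o) (d₁ := d 1) (d₅ := d 5) (d₂ := d 2) (d₄ := d 4) (dB := dB)
    (deg := fun χ => (deg χ : ℤ)) (N := (Nat.card G : ℚ)) (Nat.cast_ne_zero.2 Nat.card_pos.ne')
    (by exact_mod_cast hdo) (fun χ => by exact_mod_cast hdeg0 χ)
    ⟨qi 1 1 5 (by norm_num) (by norm_num) (by norm_num), qi 5 5 5 (by norm_num) (by norm_num) (by norm_num),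
      qi 2 2 3 (by norm_num) (by norm_num) (by norm_num), qi 4 4 4 (by norm_num) (by norm_num) (by norm_num),
      qi 1 5 4 (by norm_num) (by norm_num) (by norm_num), qi 1 2 2 (by norm_num) (by norm_num) (by norm_num),
      qi 1 4 2 (by norm_num) (by norm_num) (by norm_num), qi 5 2 2 (by norm_num) (by norm_num) (by norm_num),
      qi 5 4 2 (by norm_num) (by norm_num) (by norm_num), qi 2 4 2 (by norm_num) (by norm_num) (by norm_num),
      qiB 1 4 (by norm_num), qiB 5 4 (by norm_num), qiB 2 0 (by norm_num), qiB 4 0 (by norm_num), gBBi⟩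
    ⟨ho 1 (by norm_num), ho 5 (by norm_num), ho 2 (by norm_num), ho 4 (by norm_num), hoB⟩
    ⟨sdeg 1, sdeg 5, sdeg 2, sdeg 4, sdegB⟩ (fun χ => (hchar χ).1)
    ⟨e1, e5, e2, e4, eB⟩ ?_
  · rcases key with h | h
    · left; exact_mod_cast h
    · right; exact_mod_cast h
  -- no non-trivial linear character
  intro χ hχ
  have hw1 : deg χ = 1 := by exact_mod_cast hχ
  obtain ⟨f, hf⟩ := Char.exists_hom_of_degree_one (Char.IsIrrCharacter.isCharacter χ.2) (by rw [hdeg χ, hw1, Nat.cast_one])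
  rcases (inferInstance : f.ker.Normal).eq_bot_or_eq_top with e | e
  · exfalso
    have hinj := (MonoidHom.ker_eq_bot_iff f).1 e
    have hc : Subgroup.centralizer ({t} : Set G) = ⊤ := eq_top_iff.2 fun g _ =>
      Subgroup.mem_centralizer_singleton_iff.2 (hinj (by rw [map_mul, map_mul, mul_comm]))
    have h48 := hL.card_cent
    rw [hc, Subgroup.card_top] at h48
    have hn : (Subgroup.zpowers t).Normal := ⟨fun a ha g => by
      rwa [hinj (show f (g * a * g⁻¹) = f a by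
        rw [map_mul, map_mul, mul_comm (f g), mul_assoc, ← map_mul, mul_inv_cancel, map_one, mul_one])]⟩
    rcases hn.eq_bot_or_eq_top with e' | e'
    · exact ne_one_of_order_two ht (Subgroup.zpowers_eq_bot.1 e')
    · rw [← Subgroup.card_top, ← e', Nat.card_zpowers, ht] at h48
      norm_num at h48
  · refine Subtype.ext ?_
    funext g
    rw [← hf, (MonoidHom.mem_ker).1 (e ▸ Subgroup.mem_top g)]
    rfl

end Cfsg.Agent.GLThree
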