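import Cfsg.Agent.EqLemmas
import Mathlib.LinearAlgebra.Matrix.GeneralLinearGroup.Defs
import Mathlib.LinearAlgebra.Matrix.NonsingularInverse
import Mathlib.Data.ZMod.Basic
import Mathlib.GroupTheory.OrderOfElement

/-!
# Counting in `GL(2,3)`

`Local t y z`: the data of an involution centraliser isomorphic to `GL(2,3)` needed for the
exceptional characters; `exists_local` derives it from the isomorphism.
-/

set_option autoImplicit false

namespace Cfsg.Agent.GLThree

/-- The number of centralising elements sending a power of `w` to a power of `v`. -/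
noncomputable def cnt {G : Type*} [Group G] (t v w : G) (j m : ℕ) : ℕ :=
  Nat.card {g : Subgroup.centralizer ({t} : Set G) // v ^ j * (g : G) = (g : G) * w ^ m}

/-- The number of involutions in the centraliser of `t` inverting `x`, other than `x`. -/
noncomputable def inverting {G : Type*} [Group G] (t x : G) : ℕ :=
  Nat.card {g : Subgroup.centralizer ({t} : Set G) //
    (g : G) * g = 1 ∧ (g : G) ≠ 1 ∧ (g : G) ≠ x ∧ (g : G) * x * g * x = 1}

/-- The facts about a centraliser isomorphic to `GL(2,3)`. -/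
structure Local {G : Type*} [Group G] (t y z : G) : Prop where
  card_cent : Nat.card (Subgroup.centralizer ({t} : Set G)) = 48
  y_four : y ^ 4 = t
  z_three : z ^ 3 = t
  order_y : orderOf y = 8
  order_z : orderOf z = 6
  cntYY : ∀ j, j < 8 → j ≠ 0 → ∀ m, m < 8 → cnt t y y j m =
    8 * ((if m = j then 1 else 0) + (if m = 3 * j % 8 then 1 else 0)) +
      (if j = 4 ∧ m = 4 then 32 else 0)
  cntYZ : ∀ j, j < 8 → j ≠ 0 → ∀ m, m < 6 → cnt t y z j m = if j = 4 ∧ m = 3 then 48 else 0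
  cntZZ : ∀ j, j < 6 → j ≠ 0 → ∀ m, m < 6 → cnt t z z j m =
    6 * ((if m = j then 1 else 0) + (if m = 5 * j % 6 then 1 else 0)) +
      (if j = 3 ∧ m = 3 then 36 else 0)
  invY : ∀ j, j < 8 → j ≠ 0 →
    inverting t (y ^ j) = if j = 4 then 12 else if j % 2 = 0 then 4 else 0
  invZ : ∀ j, j < 6 → j ≠ 0 → inverting t (z ^ j) = if j = 3 then 12 else 6
  outer : ∃ s : G, s ∈ Subgroup.centralizer ({t} : Set G) ∧ ∀ g ∈ Subgroup.centralizer ({t} : Set G),
    g * g = 1 → g ≠ 1 → g ≠ t → IsConj s g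

namespace GLCount

abbrev M3 := Matrix (Fin 2) (Fin 2) (ZMod 3)

def Y : M3 := !![1, 1; 1, 0]
def Z : M3 := !![2, 2; 0, 2]
def R : M3 := !![1, 0; 0, 2]

def Yu : GL (Fin 2) (ZMod 3) := ⟨Y, Y ^ 7, by decide +kernel, by decide +kernel⟩
def Zu : GL (Fin 2) (ZMod 3) := ⟨Z, Z ^ 5, by decide +kernel, by decide +kernel⟩
def Ru : GL (Fin 2) (ZMod 3) := ⟨R, R, by decide +kernel, by decide +kernel⟩

/-- Invertible matrices as matrices with non-zero determinant. -/
noncomputable def unitsEquiv (p : M3 → Prop) :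
    {u : GL (Fin 2) (ZMod 3) // p (u : M3)} ≃ {M : M3 // M.det ≠ 0 ∧ p M} :=
  Equiv.ofBijective
    (fun u => ⟨(u.1 : M3), by
      refine ⟨?_, u.2⟩
      exact ((Matrix.isUnit_iff_isUnit_det _).1 u.1.isUnit).ne_zero⟩)
    ⟨fun u v h => Subtype.ext (Units.ext (congrArg Subtype.val h)), fun M => by
      obtain ⟨u, hu⟩ := (Matrix.isUnit_iff_isUnit_det M.1).2 (isUnit_iff_ne_zero.2 M.2.1)
      exact ⟨⟨u, hu ▸ M.2.2⟩, Subtype.ext hu⟩⟩

theorem card_units (p : M3 → Prop) [DecidablePred p] :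
    Nat.card {u : GL (Fin 2) (ZMod 3) // p (u : M3)} =
      (Finset.univ.filter fun M : M3 => M.det ≠ 0 ∧ p M).card := by
  rw [Nat.card_congr (unitsEquiv p), Nat.card_eq_fintype_card, Fintype.card_subtype]

def mcnt (V W : M3) (j m : ℕ) : ℕ :=
  (Finset.univ.filter fun M : M3 => M.det ≠ 0 ∧ V ^ j * M = M * W ^ m).card

def minv (X : M3) : ℕ :=
  (Finset.univ.filter fun M : M3 => M.det ≠ 0 ∧ M * M = 1 ∧ M ≠ 1 ∧ M ≠ X ∧ M * X * M * X = 1).card

theorem mcnt_YY : ∀ j : Fin 8, (j : ℕ) ≠ 0 → ∀ m : Fin 8, mcnt Y Y j m =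
    8 * ((if (m : ℕ) = j then 1 else 0) + (if (m : ℕ) = 3 * (j : ℕ) % 8 then 1 else 0)) +
      (if (j : ℕ) = 4 ∧ (m : ℕ) = 4 then 32 else 0) := by decide +kernel

theorem mcnt_YZ : ∀ j : Fin 8, (j : ℕ) ≠ 0 → ∀ m : Fin 6,
    mcnt Y Z j m = if (j : ℕ) = 4 ∧ (m : ℕ) = 3 then 48 else 0 := by decide +kernel

theorem mcnt_ZZ : ∀ j : Fin 6, (j : ℕ) ≠ 0 → ∀ m : Fin 6, mcnt Z Z j m =
    6 * ((if (m : ℕ) = j then 1 else 0) + (if (m : ℕ) = 5 * (j : ℕ) % 6 then 1 else 0)) +
      (if (j : ℕ) = 3 ∧ (m : ℕ) = 3 then 36 else 0) := by decide +kernel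

theorem minv_Y : ∀ j : Fin 8, (j : ℕ) ≠ 0 →
    minv (Y ^ (j : ℕ)) = if (j : ℕ) = 4 then 12 else if (j : ℕ) % 2 = 0 then 4 else 0 := by decide +kernel

theorem minv_Z : ∀ j : Fin 6, (j : ℕ) ≠ 0 →
    minv (Z ^ (j : ℕ)) = if (j : ℕ) = 3 then 12 else 6 := by decide +kernel

theorem card_gl : (Finset.univ.filter fun M : M3 => M.det ≠ 0 ∧ True).card = 48 := by decide +kernel

theorem central : ∀ M : M3, M.det ≠ 0 → M * M = 1 → M ≠ 1 →
    M * Y = Y * M → M * R = R * M → M = Y ^ 4 := by decide +kernel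

theorem z_cube : Z ^ 3 = Y ^ 4 := by decide +kernel
theorem y_eight : Y ^ 8 = 1 ∧ Y ^ 4 ≠ 1 := by decide +kernel
theorem z_six : Z ^ 6 = 1 ∧ Z ^ 2 ≠ 1 ∧ Z ^ 3 ≠ 1 := by decide +kernel

theorem outer_conj : ∀ M : M3, M.det ≠ 0 → M * M = 1 → M ≠ 1 → M ≠ Y ^ 4 →
    ∃ N : M3, N.det ≠ 0 ∧ N * R = M * N := by decide +kernel

end GLCount

variable {G : Type*} [Group G]

open GLCount in
/-- The local data from the isomorphism. -/
theorem exists_local {t : G} (ht : orderOf t = 2)
    (e : Subgroup.centralizer ({t} : Set G) ≃* Matrix.GeneralLinearGroup (Fin 2) (ZMod 3)) :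
    ∃ y z : G, Local t y z := by
  set H := Subgroup.centralizer ({t} : Set G)
  have htH : t ∈ H := Subgroup.mem_centralizer_singleton_iff.2 rfl
  let u : H := ⟨t, htH⟩
  have hu1 : u ≠ 1 := fun h => by
    rw [show t = 1 from congrArg Subtype.val h, orderOf_one] at ht
    norm_num at ht
  have htt : t * t = 1 := by rw [← sq, ← ht, pow_orderOf_eq_one]
  have huu : u * u = 1 := Subtype.ext htt
  have hcen : ∀ g : H, u * g = g * u := fun g =>
    Subtype.ext (Subgroup.mem_centralizer_singleton_iff.1 g.2).symm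
  have heu : e u = Yu ^ 4 := by
    refine Units.ext ?_
    rw [Units.val_pow_eq_pow_val]
    refine central _ ?_ ?_ ?_ ?_ ?_
    · exact ((Matrix.isUnit_iff_isUnit_det _).1 (e u).isUnit).ne_zero
    · rw [← Units.val_mul, ← map_mul, huu, map_one, Units.val_one]
    · intro h
      exact hu1 (e.injective (by rw [map_one]; exact Units.ext h))
    · have h := congrArg e (hcen (e.symm Yu))
      rw [map_mul, map_mul, e.apply_symm_apply] at h
      exact congrArg Units.val h
    · have h := congrArg e (hcen (e.symm Ru))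
      rw [map_mul, map_mul, e.apply_symm_apply] at h
      exact congrArg Units.val h
  set y : H := e.symm Yu with hy
  set z : H := e.symm Zu with hz
  have key : ∀ (V W : H) (A B : M3), (e V : M3) = A → (e W : M3) = B → ∀ j m,
      cnt t (V : G) (W : G) j m = mcnt A B j m := by
    intro V W A B hA hB j m
    rw [cnt, mcnt, ← card_units]
    refine Nat.card_congr (e.toEquiv.subtypeEquiv fun g => ?_)
    rw [← hA, ← hB]
    simp only [MulEquiv.toEquiv_eq_coe, MulEquiv.coe_toEquiv, ← Units.val_pow_eq_pow_val,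
      ← Units.val_mul, ← map_pow, ← map_mul, Units.val_inj, EmbeddingLike.apply_eq_iff_eq]
    exact ⟨fun h => Subtype.ext (by simpa using h), fun h => by simpa using congrArg Subtype.val h⟩
  have key' : ∀ (X : H) (A : M3), (e X : M3) = A → inverting t (X : G) = minv A := by
    intro X A hA
    rw [inverting, minv, ← card_units]
    refine Nat.card_congr (e.toEquiv.subtypeEquiv fun g => ?_)
    rw [← hA]
    have h1 : (1 : M3) = ((e 1 : GL (Fin 2) (ZMod 3)) : M3) := by rw [map_one, Units.val_one]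
    rw [h1]
    simp only [MulEquiv.toEquiv_eq_coe, MulEquiv.coe_toEquiv,
      ← Units.val_mul, ← map_mul, Units.val_inj, EmbeddingLike.apply_eq_iff_eq, ne_eq]
    constructor <;> rintro ⟨h1, h2, h3, h4⟩
    · exact ⟨Subtype.ext h1, fun h => h2 (congrArg Subtype.val h), fun h => h3 (congrArg Subtype.val h),
        Subtype.ext h4⟩
    · exact ⟨congrArg Subtype.val h1, fun h => h2 (Subtype.ext h), fun h => h3 (Subtype.ext h),
        congrArg Subtype.val h4⟩
  have hyY : ∀ j : ℕ, (e (y ^ j) : M3) = Y ^ j := fun j => by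
    rw [map_pow, hy, e.apply_symm_apply, Units.val_pow_eq_pow_val]; rfl
  have hzZ : ∀ j : ℕ, (e (z ^ j) : M3) = Z ^ j := fun j => by
    rw [map_pow, hz, e.apply_symm_apply, Units.val_pow_eq_pow_val]; rfl
  have hyY1 : (e y : M3) = Y := by simpa using hyY 1
  have hzZ1 : (e z : M3) = Z := by simpa using hzZ 1
  have einj : ∀ a b : H, (e a : M3) = (e b : M3) → a = b := fun a b h => e.injective (Units.ext h)
  have e1 : (e (1 : H) : M3) = 1 := by rw [map_one, Units.val_one]
  refine ⟨(y : G), (z : G), ?_, ?_, ?_, ?_, ?_, ?_, ?_, ?_, ?_, ?_, ?_⟩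
  · rw [Nat.card_congr (e.toEquiv.trans (Equiv.subtypeUnivEquiv (p := fun _ => True) fun _ => trivial).symm),
      card_units (fun _ => True), card_gl]
  · have h : y ^ 4 = u := einj _ _ (by rw [hyY, heu, Units.val_pow_eq_pow_val]; rfl)
    simpa using congrArg Subtype.val h
  · have h : z ^ 3 = u := einj _ _ (by rw [hzZ, heu, Units.val_pow_eq_pow_val, z_cube]; rfl)
    simpa using congrArg Subtype.val h
  · rw [Subgroup.orderOf_coe]
    have : Fact (Nat.Prime 2) := ⟨Nat.prime_two⟩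
    refine (orderOf_eq_prime_pow (p := 2) (n := 2) (fun h => y_eight.2 ?_) (einj _ _ ?_)).trans (by norm_num)
    · have := hyY 4
      rw [show y ^ 4 = (1 : H) from h, e1] at this
      exact this.symm
    · rw [hyY, e1]; exact y_eight.1
  · rw [Subgroup.orderOf_coe, orderOf_eq_iff (by norm_num)]
    refine ⟨einj _ _ (by rw [hzZ, e1]; exact z_six.1), fun m hm hm0 h => ?_⟩
    have hm' : Z ^ m = 1 := by rw [← hzZ, h, e1]
    interval_cases m
    · exact z_six.2.1 (by rw [pow_one] at hm'; rw [hm', one_pow])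
    · exact z_six.2.1 hm'
    · exact z_six.2.2 hm'
    · have h2 := z_six.1
      rw [show (6 : ℕ) = 4 + 2 from rfl, pow_add, hm', one_mul] at h2
      exact z_six.2.1 h2
    · have h2 := z_six.1
      rw [show (6 : ℕ) = 5 + 1 from rfl, pow_add, hm', one_mul, pow_one] at h2
      exact z_six.2.1 (by rw [h2, one_pow])
  · exact fun j hj hj0 m hm => (key y y Y Y hyY1 hyY1 j m).trans (mcnt_YY ⟨j, hj⟩ hj0 ⟨m, hm⟩)
  · exact fun j hj hj0 m hm => (key y z Y Z hyY1 hzZ1 j m).trans (mcnt_YZ ⟨j, hj⟩ hj0 ⟨m, hm⟩)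
  · exact fun j hj hj0 m hm => (key z z Z Z hzZ1 hzZ1 j m).trans (mcnt_ZZ ⟨j, hj⟩ hj0 ⟨m, hm⟩)
  · intro j hj hj0
    rw [← Subgroup.coe_pow, key' _ _ (hyY j)]
    exact minv_Y ⟨j, hj⟩ hj0
  · intro j hj hj0
    rw [← Subgroup.coe_pow, key' _ _ (hzZ j)]
    exact minv_Z ⟨j, hj⟩ hj0
  · refine ⟨(e.symm Ru : H), (e.symm Ru).2, fun g hg hgg hg1 hgt => ?_⟩
    set g' : H := ⟨g, hg⟩ with hg'
    have hsq : (e g' : M3) * (e g' : M3) = 1 := by
      rw [← Units.val_mul, ← map_mul, show g' * g' = 1 from Subtype.ext hgg, e1]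
    obtain ⟨N, hN, hNR⟩ := outer_conj (e g' : M3)
      ((Matrix.isUnit_iff_isUnit_det _).1 (e g').isUnit).ne_zero hsq
      (fun h => hg1 (congrArg Subtype.val (einj g' 1 (h.trans e1.symm))))
      (fun h => hgt (congrArg Subtype.val (einj g' u (by rw [h, heu, Units.val_pow_eq_pow_val]; rfl))))
    obtain ⟨n, rfl⟩ := (Matrix.isUnit_iff_isUnit_det N).2 (isUnit_iff_ne_zero.2 hN)
    refine isConj_iff.2 ⟨(e.symm n : H), ?_⟩
    have h' : e.symm n * e.symm Ru = g' * e.symm n := by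
      refine e.injective (Units.ext ?_)
      simp only [map_mul, e.apply_symm_apply, Units.val_mul]
      exact hNR
    have h2 : (e.symm n : H) * e.symm Ru * (e.symm n)⁻¹ = g' := by
      rw [h', mul_inv_cancel_right]
    simpa [hg'] using congrArg Subtype.val h2

end Cfsg.Agent.GLThree
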